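import Cfsg.Agent.RankOne.ZassenhausPSL
import Cfsg.Agent.BSW.Main

/-!
A simple group satisfying the conclusion of the theorem of Brauer, Suzuki and Wall is `PSL(2, q)`.
-/

set_option autoImplicit false
set_option linter.style.haveILetI false
set_option linter.unusedSectionVars false

namespace Cfsg.Lib.PSLOrderSpec

open Subgroup
open scoped Pointwise

universe u

variable {X : Type u} [Group X] [Finite X]

theorem psl_of_concl [IsSimpleGroup X] (Q D : Subgroup X)
    (hcard : 2 * Nat.card X = Nat.card ↥Q * (Nat.card ↥Q + 1) * (Nat.card ↥Q - 1))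
    (hC : ∀ x ∈ Q, x ≠ 1 → centralizer ({x} : Set X) = Q)
    (hD : 2 * Nat.card ↥D + 1 = Nat.card ↥Q) (hD1 : D ≠ ⊥) (hQD : Q ⊓ D = ⊥)
    (hN : normalizer (Q : Set X) = Q ⊔ D)
    (hX : ∀ Y : Subgroup X, Y ≤ D → Y ≠ ⊥ → normalizer (Y : Set X) = normalizer (D : Set X) ∧
      ∃ u : X, orderOf u = 2 ∧ u ∉ D ∧ (∀ d ∈ D, u * d * u⁻¹ = d⁻¹) ∧
        normalizer (D : Set X) = D ⊔ zpowers u) :
    ∃ (F : Type) (_ : Field F) (_ : Fintype F), Fintype.card F = Nat.card Q ∧
      Nonempty (X ≃* Matrix.ProjectiveSpecialLinearGroup (Fin 2) F) := by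
  classical
  obtain ⟨q, hq⟩ : ∃ q, q = Nat.card ↥Q := ⟨_, rfl⟩
  set N := normalizer (Q : Set X) with hNdef
  have hQN : Q ≤ N := le_normalizer
  have hDN : D ≤ N := hN ▸ le_sup_right
  -- decomposition of the normaliser
  have hdec : ∀ z ∈ N, ∃ y ∈ Q, ∃ d ∈ D, y * d = z := by
    intro z hz
    rw [hN, ← SetLike.mem_coe, Subgroup.coe_mul_of_right_le_normalizer_left Q D hDN] at hz
    obtain ⟨y, hy, d, hd, e⟩ := hz
    exact ⟨y, hy, d, hd, e⟩
  have huniq : ∀ y ∈ Q, ∀ d ∈ D, y * d = 1 → y = 1 ∧ d = 1 := by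
    intro y hy d hd e
    have hm : d ∈ Q ⊓ D := mem_inf.2 ⟨by rw [eq_inv_of_mul_eq_one_right e]; exact inv_mem hy, hd⟩
    rw [hQD, mem_bot] at hm
    rw [hm, mul_one] at e
    exact ⟨e, hm⟩
  have hcardN : Nat.card N = q * Nat.card D := by
    rw [hq, ← Nat.card_prod]
    refine (Nat.card_congr (Equiv.ofBijective (fun yd : Q × D =>
      (⟨(yd.1 : X) * yd.2, mul_mem (hQN yd.1.2) (hDN yd.2.2)⟩ : N)) ⟨?_, ?_⟩)).symm
    · rintro ⟨a, b⟩ ⟨c, d⟩ e
      have e' : (a : X) * b = c * d := congrArg Subtype.val e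
      obtain ⟨h1, h2⟩ := huniq _ (mul_mem (inv_mem c.2) a.2) _ (mul_mem b.2 (inv_mem d.2)) (by
        calc (c : X)⁻¹ * a * (b * (d : X)⁻¹) = (c : X)⁻¹ * (a * b) * (d : X)⁻¹ := by group
          _ = 1 := by rw [e']; group)
      rw [inv_mul_eq_one] at h1
      rw [mul_inv_eq_one] at h2
      exact Prod.ext (Subtype.ext h1.symm) (Subtype.ext h2)
    · rintro ⟨z, hz⟩
      obtain ⟨y, hy, d, hd, e⟩ := hdec z hz
      exact ⟨(⟨y, hy⟩, ⟨d, hd⟩), Subtype.ext e⟩
  have hDpos : 0 < Nat.card D := Nat.card_pos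
  rw [← hq] at hcard hD
  have hindex : N.index = q + 1 := by
    have h1 := N.card_mul_index
    rw [hcardN] at h1
    rw [← h1, show q - 1 = 2 * Nat.card D by omega] at hcard
    have : (2 * (q * Nat.card D)) * N.index = (2 * (q * Nat.card D)) * (q + 1) := by linarith
    exact Nat.eq_of_mul_eq_mul_left (Nat.mul_pos two_pos (Nat.mul_pos (by omega) hDpos)) this
  have hQmem : ∀ z ∈ N, z ^ q = 1 → z ∈ Q := by
    intro z hz hzq
    haveI : (Q.subgroupOf N).Normal := normal_in_normalizer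
    have hidx : (Q.subgroupOf N).index = Nat.card D := by
      have h1 := (Q.subgroupOf N).card_mul_index
      rw [Nat.card_congr (subgroupOfEquivOfLe hQN).toEquiv, hcardN, ← hq] at h1
      exact Nat.eq_of_mul_eq_mul_left (by omega) h1
    have ho : orderOf (QuotientGroup.mk (⟨z, hz⟩ : N) : N ⧸ Q.subgroupOf N) ∣ 1 := by
      have h1 : orderOf (QuotientGroup.mk (⟨z, hz⟩ : N) : N ⧸ Q.subgroupOf N) ∣ q :=
        orderOf_dvd_of_pow_eq_one (by
          rw [← QuotientGroup.mk_pow, show (⟨z, hz⟩ : N) ^ q = 1 from Subtype.ext hzq, QuotientGroup.mk_one])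
      have h2 : orderOf (QuotientGroup.mk (⟨z, hz⟩ : N) : N ⧸ Q.subgroupOf N) ∣ Nat.card D :=
        hidx ▸ _root_.orderOf_dvd_natCard _
      exact (Nat.dvd_add_right (h2.mul_left 2)).1 (hD.symm ▸ h1)
    rw [Nat.dvd_one, orderOf_eq_one_iff, QuotientGroup.eq_one_iff, mem_subgroupOf] at ho
    exact ho
  -- the points
  let o : X ⧸ N := QuotientGroup.mk 1
  haveI := Fintype.ofFinite (X ⧸ N)
  have hfix : ∀ (z x : X), z • (QuotientGroup.mk x : X ⧸ N) = QuotientGroup.mk x ↔ x⁻¹ * z * x ∈ N := by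
    intro z x
    rw [MulAction.Quotient.smul_mk, smul_eq_mul, eq_comm, QuotientGroup.eq, mul_assoc]
  have hstab : ∀ z : X, z • o = o ↔ z ∈ N := fun z => by rw [hfix]; simp
  have hsemi : ∀ y ∈ Q, y ≠ 1 → ∀ c : X ⧸ N, y • c = c → c = o := by
    intro y hy hy1 c hc
    obtain ⟨x, rfl⟩ := QuotientGroup.mk_surjective c
    have hzN := (hfix y x).1 hc
    have hzQ : x⁻¹ * y * x ∈ Q := hQmem _ hzN (by
      have : y ^ q = 1 := by
        rw [hq]
        exact congrArg Subtype.val (pow_card_eq_one' (x := (⟨y, hy⟩ : Q)) :)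
      calc (x⁻¹ * y * x) ^ q = (x⁻¹ * y * x⁻¹⁻¹) ^ q := by rw [inv_inv]
        _ = 1 := by rw [conj_pow, this]; group)
    have hz1 : x⁻¹ * y * x ≠ 1 := fun e => hy1 (by
      calc y = x * (x⁻¹ * y * x) * x⁻¹ := by group
        _ = 1 := by rw [e]; group)
    have hxN : x⁻¹ ∈ N := by
      refine mem_normalizer_iff.2 fun w => ⟨fun hw => ?_, fun hw => ?_⟩
      · rw [← hC _ hzQ hz1, mem_centralizer_singleton_iff]
        rw [← hC _ hy hy1, mem_centralizer_singleton_iff] at hw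
        calc x⁻¹ * w * x⁻¹⁻¹ * (x⁻¹ * y * x) = x⁻¹ * (w * y) * x := by group
          _ = _ := by rw [hw]; group
      · rw [← hC _ hy hy1, mem_centralizer_singleton_iff]
        rw [← hC _ hzQ hz1, mem_centralizer_singleton_iff] at hw
        calc w * y = x * (x⁻¹ * w * x⁻¹⁻¹ * (x⁻¹ * y * x)) * x⁻¹ := by group
          _ = _ := by rw [hw]; group
    exact QuotientGroup.eq.2 (by rw [mul_one]; exact hxN)
  obtain ⟨-, u, hu, huD, hinv, hND⟩ := hX D le_rfl hD1
  have huND : u ∈ normalizer (D : Set X) := hND ▸ mem_sup_right (mem_zpowers u)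
  obtain ⟨d₁, hd₁, hd₁1⟩ := D.bot_or_exists_ne_one.resolve_left hD1
  have huN : u ∉ N := by
    intro h
    obtain ⟨y, hy, d, hd, e⟩ := hdec u h
    have hyD : y ∈ normalizer (D : Set X) := by
      rw [eq_mul_inv_of_mul_eq e]
      exact mul_mem huND (inv_mem (le_normalizer hd))
    have hyd : y * d₁ * y⁻¹ ∈ D := (mem_normalizer_iff.1 hyD d₁).1 hd₁
    have hc : y * d₁ * y⁻¹ * d₁⁻¹ ∈ Q ⊓ D := mem_inf.2 ⟨by
      rw [show y * d₁ * y⁻¹ * d₁⁻¹ = y * (d₁ * y⁻¹ * d₁⁻¹) by group]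
      exact mul_mem hy ((mem_normalizer_iff.1 (hDN hd₁) _).1 (inv_mem hy)), mul_mem hyd (inv_mem hd₁)⟩
    rw [hQD, mem_bot, mul_inv_eq_one] at hc
    by_cases hy1 : y = 1
    · rw [hy1, one_mul] at e
      exact huD (e ▸ hd)
    · have : d₁ ∈ Q ⊓ D := mem_inf.2 ⟨hC y hy hy1 ▸ mem_centralizer_singleton_iff.2 (mul_inv_eq_iff_eq_mul.1 hc).symm, hd₁⟩
      rw [hQD, mem_bot] at this
      exact hd₁1 this
  let P : X ⧸ N := QuotientGroup.mk u
  have hPo : P ≠ o := fun e => huN (by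
    have := QuotientGroup.eq.1 e.symm
    rwa [inv_one, one_mul] at this)
  have hreg : ∀ c : X ⧸ N, c ≠ o → ∃ y ∈ Q, y • P = c := by
    intro c hc
    let f : Q → {c : X ⧸ N // c ≠ o} := fun y => ⟨(y : X) • P, fun e => hPo (by
      have h1 : (y : X) • o = o := (hstab _).2 (hQN y.2)
      exact smul_left_cancel (y : X) (e.trans h1.symm))⟩
    have hinj : Function.Injective f := by
      intro a b e
      have e' : (a : X) • P = (b : X) • P := congrArg Subtype.val e
      by_contra hne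
      refine hPo (hsemi _ (mul_mem (inv_mem b.2) a.2) (fun h1 => hne (Subtype.ext (inv_mul_eq_one.1 h1).symm)) P ?_)
      rw [mul_smul, e', inv_smul_smul]
    haveI := Fintype.ofFinite Q
    have hb : Function.Bijective f := by
      refine (Fintype.bijective_iff_injective_and_card f).2 ⟨hinj, ?_⟩
      rw [Fintype.card_subtype_compl, Fintype.card_subtype_eq, ← Nat.card_eq_fintype_card,
        ← Nat.card_eq_fintype_card, show Nat.card (X ⧸ N) = N.index from rfl, hindex, ← hq]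
      omega
    obtain ⟨y, hy⟩ := hb.2 ⟨c, hc⟩
    exact ⟨y, y.2, congrArg Subtype.val hy⟩
  -- the stabiliser of two points
  have hDP : ∀ d ∈ D, d • P = P := fun d hd => (hfix d u).2 (by
    have h1 := hinv _ (inv_mem hd)
    rw [inv_inv] at h1
    rw [show u⁻¹ * d * u = d⁻¹ by
      calc u⁻¹ * d * u = u⁻¹ * (u * d⁻¹ * u⁻¹) * u := by rw [h1]
        _ = d⁻¹ := by group]
    exact hDN (inv_mem hd))
  have hE : ∀ z : X, z • o = o → z • P = P → z ∈ D := by
    intro z hzo hzP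
    obtain ⟨y, hy, d, hd, rfl⟩ := hdec z ((hstab z).1 hzo)
    rw [mul_smul, hDP d hd] at hzP
    by_cases hy1 : y = 1
    · rwa [hy1, one_mul]
    · exact absurd (hsemi y hy hy1 P hzP) hPo
  haveI htr : MulAction.IsPretransitive X (X ⧸ N) := inferInstance
  have h2 : MulAction.IsMultiplyPretransitive X (X ⧸ N) 2 := by
    refine MulAction.is_two_pretransitive_iff.2 fun {a b c d} hab hcd => ?_
    have key : ∀ a b : X ⧸ N, a ≠ b → ∃ g : X, g • o = a ∧ g • P = b := by
      intro a b hab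
      obtain ⟨g, rfl⟩ := MulAction.exists_smul_eq X o a
      obtain ⟨y, hy, e⟩ := hreg (g⁻¹ • b) (fun e => hab (by rw [← e, smul_inv_smul]))
      exact ⟨g * y, by rw [mul_smul, (hstab y).2 (hQN hy)], by rw [mul_smul, e, smul_inv_smul]⟩
    obtain ⟨g, hga, hgb⟩ := key a b hab
    obtain ⟨g', hga', hgb'⟩ := key c d hcd
    exact ⟨g' * g⁻¹, by rw [mul_smul, ← hga, inv_smul_smul, hga'], by rw [mul_smul, ← hgb, inv_smul_smul, hgb']⟩
  -- three points
  have h3 : ∀ z : X, ∀ a b c : X ⧸ N, a ≠ b → b ≠ c → a ≠ c → z • a = a → z • b = b → z • c = c → z = 1 := by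
    intro z a b c hab hbc hac ha hb hc
    obtain ⟨g, hga, hgb⟩ := MulAction.is_two_pretransitive_iff.1 h2 (Ne.symm hPo) hab
    obtain ⟨w, hw⟩ : ∃ w, w = g⁻¹ * z * g := ⟨_, rfl⟩
    have hwo : w • o = o := by rw [hw, mul_smul, mul_smul, hga, ha, ← hga, inv_smul_smul]
    have hwP : w • P = P := by rw [hw, mul_smul, mul_smul, hgb, hb, ← hgb, inv_smul_smul]
    have hwc : w • (g⁻¹ • c) = g⁻¹ • c := by rw [hw, mul_smul, mul_smul, smul_inv_smul, hc]
    suffices w = 1 by
      calc z = g * (g⁻¹ * z * g) * g⁻¹ := by group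
        _ = 1 := by rw [← hw, this]; group
    obtain ⟨y, hy, hyc⟩ := hreg (g⁻¹ • c) (fun e => hac (by rw [← hga, ← e, smul_inv_smul]))
    have hwD := hE w hwo hwP
    have hwD' : y⁻¹ * w * y ∈ D := by
      refine hE _ ?_ ?_
      · rw [mul_smul, mul_smul, (hstab y).2 (hQN hy), hwo, (hstab y⁻¹).2 (inv_mem (hQN hy))]
      · rw [mul_smul, mul_smul, hyc, hwc, ← hyc, inv_smul_smul]
    by_contra hw1
    have hy1 : y ≠ 1 := fun e => hbc (by
      rw [← hgb, show P = g⁻¹ • c by rw [← hyc, e, one_smul], smul_inv_smul])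
    have hN1 := (hX (zpowers w) (zpowers_le.2 hwD) (fun e => hw1 (zpowers_eq_bot.1 e))).1
    have hN2 := (hX (zpowers (y⁻¹ * w * y)) (zpowers_le.2 hwD') (fun e => hw1 (by
      have := zpowers_eq_bot.1 e
      calc w = y * (y⁻¹ * w * y) * y⁻¹ := by group
        _ = 1 := by rw [this]; group))).1
    have hyN : ∀ v : X, v ∈ normalizer (D : Set X) → y⁻¹ * v * y ∈ normalizer (D : Set X) := by
      intro v hv
      rw [← hN1] at hv
      rw [← hN2]
      have hmap : zpowers (y⁻¹ * w * y) = (zpowers w).map (MulAut.conj y⁻¹).toMonoidHom := by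
        rw [MonoidHom.map_zpowers]; simp
      rw [hmap, ← Subgroup.map_equiv_normalizer_eq]
      exact ⟨v, hv, by simp⟩
    have hNDN : ∀ v ∈ normalizer (D : Set X), v ∈ N → v ∈ D := by
      intro v hv hvN
      rw [hND, ← SetLike.mem_coe, Subgroup.coe_mul_of_right_le_normalizer_left D (zpowers u) (zpowers_le.2 huND)] at hv
      obtain ⟨d, hd, x, hx, rfl⟩ := hv
      obtain ⟨i, rfl⟩ := hx
      have hui : u ^ i ∈ N := by
        rw [show u ^ i = d⁻¹ * (d * u ^ i) by group]; exact mul_mem (inv_mem (hDN hd)) hvN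
      rcases Int.emod_two_eq_zero_or_one i with r | r
      · have : u ^ i = 1 := by
          rw [← zpow_mod_orderOf, hu, show i % ((2 : ℕ) : ℤ) = 0 by exact_mod_cast r, zpow_zero]
        show d * u ^ i ∈ D
        rw [this, mul_one]; exact hd
      · refine absurd ?_ huN
        have : u ^ i = u := by
          rw [← zpow_mod_orderOf, hu, show i % ((2 : ℕ) : ℤ) = 1 by exact_mod_cast r, zpow_one]
        rwa [this] at hui
    have hy' : y⁻¹ ∈ normalizer (D : Set X) := by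
      refine mem_normalizer_iff_map_conj_eq.2 (Subgroup.eq_of_le_of_card_ge ?_ (by
        rw [Subgroup.card_map_of_injective (MulAut.conj y⁻¹).injective]))
      rintro _ ⟨d, hd, rfl⟩
      have := hNDN _ (hyN d (le_normalizer hd)) (mul_mem (mul_mem (inv_mem (hQN hy)) (hDN hd)) (hQN hy))
      show y⁻¹ * d * y⁻¹⁻¹ ∈ D
      rwa [inv_inv]
    have hm : y⁻¹ ∈ Q ⊓ D := mem_inf.2 ⟨inv_mem hy, hNDN _ hy' (inv_mem (hQN hy))⟩
    rw [hQD, mem_bot, inv_eq_one] at hm
    exact hy1 hm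
  haveI hF : FaithfulSMul X (X ⧸ N) := by
    refine ⟨fun {g g'} h => ?_⟩
    have hcore : N.normalCore = ⊥ := by
      refine ((inferInstance : IsSimpleGroup X).eq_bot_or_eq_top_of_normal _ inferInstance).resolve_right fun e => ?_
      have : N = ⊤ := top_le_iff.1 (e ▸ Subgroup.normalCore_le N)
      rw [this, Subgroup.index_top] at hindex
      omega
    have hk : g'⁻¹ * g ∈ (MulAction.toPermHom X (X ⧸ N)).ker := by
      rw [MonoidHom.mem_ker]
      refine Equiv.ext fun c => ?_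
      show (g'⁻¹ * g) • c = c
      rw [mul_smul, h c, inv_smul_smul]
    rw [← Subgroup.normalCore_eq_ker, hcore, mem_bot, inv_mul_eq_one] at hk
    exact hk.symm
  have hst : ∀ a b : X ⧸ N, a = o → b = P → (MulAction.stabilizer X a ⊓ MulAction.stabilizer X b) = D := by
    rintro a b rfl rfl
    refine le_antisymm (fun z hz => hE z (mem_inf.1 hz).1 (mem_inf.1 hz).2) fun d hd => ?_
    exact mem_inf.2 ⟨(hstab d).2 (hDN hd), hDP d hd⟩
  have hZ : Cfsg.IsZassenhausGroup X (X ⧸ N) := by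
    refine ⟨hF, h2, h3, ⟨d₁, hd₁1, o, P, hPo.symm, (hstab d₁).2 (hDN hd₁), hDP d₁ hd₁⟩, fun M hM hMt => ⟨o, ?_⟩⟩
    rcases (inferInstance : IsSimpleGroup X).eq_bot_or_eq_top_of_normal M hM with e | e
    · exfalso
      obtain ⟨⟨g, hg⟩, hgp⟩ := hMt.exists_smul_eq o P
      rw [e, mem_bot] at hg
      subst hg
      exact hPo (by rw [← hgp]; exact (one_smul _ _))
    · subst e
      refine (Subgroup.ne_bot_iff_exists_ne_one).2 ⟨⟨⟨d₁, mem_top _⟩, (hstab d₁).2 (hDN hd₁)⟩, ?_⟩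
      exact fun e => hd₁1 (congrArg (fun z => ((z : (⊤ : Subgroup X)) : X)) (congrArg Subtype.val e))
  have hQab : IsMulCommutative Q := ⟨⟨fun a b => by
    by_cases hb : (b : X) = 1
    · exact Subtype.ext (by simp [hb])
    · have := (SetLike.ext_iff.1 (hC b b.2 hb) (a : X)).2 a.2
      rw [mem_centralizer_singleton_iff] at this
      exact Subtype.ext this⟩⟩
  have hΩ : Fintype.card (X ⧸ N) = q + 1 := by
    rw [← Nat.card_eq_fintype_card]; exact hindex
  obtain ⟨F, i1, i2, hFc, -, he⟩ := Cfsg.Lib.RankOne.zassenhaus_psl hZ hPo.symm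
    (by
      rw [hΩ, show Cfsg.Lib.OddChar.Zassenhaus.stab₂ X o P = D from hst o P rfl rfl]
      omega)
    (H := Q) (fun y hy => (hstab y).2 (hQN hy)) (by rw [hΩ, ← hq]) (fun y hy hy1 c hc => hsemi y hy hy1 c hc) hQab
  exact ⟨F, i1, i2, hFc, he⟩

end Cfsg.Lib.PSLOrderSpec
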