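import Cfsg.Agent.InvolCalc.AbelianCent.Main
import Cfsg.Agent.BSW.Main
import Cfsg.Agent.Frobenius.UniqueSubgroup
import Cfsg.Agent.SolvStruct.CyclicProduct
import Cfsg.Agent.S0111
import Cfsg.Agent.S3225
import Cfsg.Agent.S3269

/-!
A simple group with an involution centraliser having a cyclic subgroup of index two, containing the
centralisers of its nontrivial elements with index at most two, satisfies the hypotheses of the
theorem of Brauer, Suzuki and Wall.
-/

set_option autoImplicit false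
set_option linter.style.haveILetI false
set_option linter.unusedSectionVars false

namespace Cfsg.Lib.PSLOrderSpec

open Subgroup Cfsg.Lib.InvolCalc
open scoped Pointwise

universe u

variable {X : Type u} [Group X] [Finite X]

/-- The hypotheses. -/
structure Core (t : X) (K : Subgroup X) : Prop where
  simple : IsSimpleGroup X
  nc : ¬ IsMulCommutative X
  ht : orderOf t = 2
  cyc : IsCyclic K
  htK : t ∈ K
  hle : K ≤ centralizer ({t} : Set X)
  card : Nat.card (centralizer ({t} : Set X)) = 2 * Nat.card K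
  hall : ∀ r : ℕ, r.Prime → r ∣ Nat.card K → ¬ r ∣ (centralizer ({t} : Set X)).index
  cent : ∀ k ∈ K, k ≠ 1 → Nat.card (centralizer ({k} : Set X)) ≤ 2 * Nat.card K

namespace Core

variable {t : X} {K : Subgroup X} (h : Core t K)
include h

theorem two_dvd : 2 ∣ Nat.card K := h.ht ▸ Subgroup.orderOf_dvd_natCard K h.htK

theorem exists_gen : ∃ k₀ : X, zpowers k₀ = K ∧ orderOf k₀ = Nat.card K := by
  obtain ⟨g, hg⟩ := h.cyc.exists_generator
  have : zpowers (g : X) = K := by
    refine le_antisymm (zpowers_le.2 g.2) fun x hx => ?_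
    obtain ⟨i, hi⟩ := hg ⟨x, hx⟩
    exact ⟨i, congrArg Subtype.val hi⟩
  exact ⟨g, this, (Nat.card_zpowers (g : X)).symm.trans (congrArg (fun L : Subgroup X => Nat.card L) this)⟩

theorem comm {a b : X} (ha : a ∈ K) (hb : b ∈ K) : a * b = b * a := by
  obtain ⟨k₀, hk, -⟩ := h.exists_gen
  rw [← hk] at ha hb
  obtain ⟨i, rfl⟩ := ha
  obtain ⟨j, rfl⟩ := hb
  exact (Commute.zpow_zpow (Commute.refl k₀) i j).eq

theorem le_cent {k : X} (hk : k ∈ K) : K ≤ centralizer ({k} : Set X) := fun _ ha =>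
  mem_centralizer_singleton_iff.2 (h.comm ha hk)

/-- The only involution of `K`. -/
theorem eq_t {k : X} (hk : k ∈ K) (hkk : k * k = 1) : k = 1 ∨ k = t := by
  by_contra hne
  push Not at hne
  have hc := h.cyc
  have := Fintype.ofFinite K
  classical
  have h2 := hc.card_orderOf_eq_totient (d := 2) (by rw [← Nat.card_eq_fintype_card]; exact h.two_dvd)
  rw [Nat.totient_two, Finset.card_eq_one] at h2
  obtain ⟨z, hz⟩ := h2
  have e1 : (⟨k, hk⟩ : K) = z := by
    refine Finset.mem_singleton.1 (hz ▸ Finset.mem_filter.2 ⟨Finset.mem_univ _, ?_⟩)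
    rw [Subgroup.orderOf_mk, order_two_of_mul_self hkk hne.1]
  have e2 : (⟨t, h.htK⟩ : K) = z := by
    refine Finset.mem_singleton.1 (hz ▸ Finset.mem_filter.2 ⟨Finset.mem_univ _, ?_⟩)
    rw [Subgroup.orderOf_mk, h.ht]
  exact hne.2 (congrArg Subtype.val (e1.trans e2.symm))

theorem odd_index : ¬ 2 ∣ (centralizer ({t} : Set X)).index := h.hall 2 Nat.prime_two h.two_dvd

theorem card_X : Nat.card X = 2 * Nat.card K * (centralizer ({t} : Set X)).index := by
  rw [← h.card, Subgroup.card_mul_index]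

theorem card_ne_two : Nat.card X ≠ 2 := fun e => h.nc (by
  haveI : Fact (Nat.Prime 2) := ⟨Nat.prime_two⟩
  haveI := isCyclic_of_prime_card e
  exact ⟨⟨fun a b => by
    obtain ⟨g, hg⟩ := IsCyclic.exists_generator (α := X)
    obtain ⟨i, rfl⟩ := hg a
    obtain ⟨j, rfl⟩ := hg b
    exact (Commute.zpow_zpow (Commute.refl g) i j).eq⟩⟩ : IsMulCommutative X)

theorem normal_cases (N : Subgroup X) (hN : N.Normal) : N = ⊥ ∨ N = ⊤ := h.simple.eq_bot_or_eq_top_of_normal N hN

theorem index_ne_two (H : Subgroup X) : H.index ≠ 2 := by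
  intro e
  rcases h.normal_cases H (Subgroup.normal_of_index_eq_two e) with r | r
  · rw [r, Subgroup.index_bot] at e; exact h.card_ne_two e
  · rw [r, Subgroup.index_top] at e; omega

/-- No Sylow subgroup has a normal complement. -/
theorem no_burnside {r : ℕ} [Fact r.Prime] (R : Sylow r X) (hR : (R : Subgroup X) ≠ ⊥) (hR' : (R : Subgroup X) ≠ ⊤)
    (hN : normalizer ((R : Subgroup X) : Set X) ≤ centralizer ((R : Subgroup X) : Set X)) : False := by
  have hK := MonoidHom.ker_transferSylow_isComplement' R hN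
  rcases h.normal_cases _ (MonoidHom.normal_ker (MonoidHom.transferSylow R hN)) with e | e <;> rw [e] at hK
  · rw [Subgroup.isComplement'_bot_left] at hK
    exact hR' hK
  · rw [Subgroup.isComplement'_top_left] at hK
    exact hR hK

theorem sylow_ne_top {r : ℕ} [Fact r.Prime] (R : Sylow r X) (hR : (R : Subgroup X) ≠ ⊥) : (R : Subgroup X) ≠ ⊤ := by
  intro e
  have hp : IsPGroup r X := (e ▸ R.2).of_equiv topEquiv
  haveI : Nontrivial X := h.simple.toNontrivial
  haveI := hp.center_nontrivial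
  rcases h.normal_cases (center X) inferInstance with c | c
  · exact (nontrivial_iff_ne_bot _).1 inferInstance c
  · exact h.nc ⟨⟨fun a b => (mem_center_iff.1 (c.symm ▸ mem_top b : b ∈ center X) a)⟩⟩

/-- The Sylow subgroups are not cyclic. -/
theorem sylow_two_not_cyclic (S : Sylow 2 X) : ¬ IsCyclic (S : Subgroup X) := by
  intro hc
  haveI : Fact (Nat.Prime 2) := ⟨Nat.prime_two⟩
  have hev : 2 ∣ Nat.card X := h.ht ▸ orderOf_dvd_natCard t
  have hne := S.ne_bot_of_dvd_card hev
  refine h.no_burnside S hne (h.sylow_ne_top S hne) (IsCyclic.normalizer_le_centralizer ?_ hc)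
  exact le_antisymm (Nat.minFac_le_of_dvd le_rfl hev)
    (Nat.minFac_prime (fun e => by have := Nat.le_of_dvd Nat.card_pos hev; omega)).two_le

theorem sylow_two_not_quaternion (S : Sylow 2 X) (n : ℕ) (e : (S : Subgroup X) ≃* QuaternionGroup (2 ^ n)) :
    False := by
  rcases Nat.eq_zero_or_pos n with hn | hn
  · subst hn
    refine h.sylow_two_not_cyclic S ?_
    haveI : IsCyclic (QuaternionGroup (2 ^ 0)) := QuaternionGroup.quaternionGroup_one_isCyclic
    exact isCyclic_of_surjective e.symm e.symm.surjective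
  · refine Cfsg.Agent.S3269.result S (S : Subgroup X) ⊥ ⟨le_rfl, bot_le, ?_, inf_bot_eq _, sup_bot_eq _⟩ n hn e
      (fun r hr ho => ?_) h.simple
    · intro a _ b hb; rw [Subgroup.mem_bot.1 hb, one_mul, mul_one]
    · rw [Subgroup.mem_bot.1 hr, orderOf_one] at ho; omega

/-- The generator of `K`, its two-part and an involution outside `K`. -/
structure Gen (t : X) (K : Subgroup X) (k₀ a s : X) (m n' : ℕ) (S : Sylow 2 X) : Prop where
  gen : zpowers k₀ = K
  ord : orderOf k₀ = Nat.card K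
  split : Nat.card K = m * n'
  two : ∃ j : ℕ, j ≠ 0 ∧ m = 2 ^ j
  odd : Odd n'
  ha : a = k₀ ^ n'
  hs : orderOf s = 2
  hsC : s ∈ centralizer ({t} : Set X)
  hsK : s ∉ K
  haS : a ∈ (S : Subgroup X)
  hsS : s ∈ (S : Subgroup X)
  cardS : Nat.card (S : Subgroup X) = 2 * m

theorem mem_C {s x : X} (hsC : s ∈ centralizer ({t} : Set X)) (hsK : s ∉ K) (hx : x ∈ centralizer ({t} : Set X))
    (hxK : x ∉ K) : x * s⁻¹ ∈ K := by
  have hidx : (K.subgroupOf (centralizer ({t} : Set X))).index = 2 := by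
    have h1 := (K.subgroupOf (centralizer ({t} : Set X))).card_mul_index
    rw [Nat.card_congr (subgroupOfEquivOfLe h.hle).toEquiv, h.card, mul_comm 2] at h1
    exact Nat.eq_of_mul_eq_mul_left Nat.card_pos h1
  have := (Subgroup.mul_mem_iff_of_index_two hidx (a := ⟨x, hx⟩) (b := ⟨s⁻¹, inv_mem hsC⟩)).2
  simp only [Subgroup.mem_subgroupOf] at this
  exact this ⟨fun e => absurd e hxK, fun e => absurd (inv_mem_iff.1 e) hsK⟩

theorem exists_setup : ∃ (k₀ a s : X) (m n' : ℕ) (S : Sylow 2 X), Gen t K k₀ a s m n' S := by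
  classical
  haveI : Fact (Nat.Prime 2) := ⟨Nat.prime_two⟩
  obtain ⟨k₀, hgen, hord⟩ := h.exists_gen
  set n := Nat.card K with hn
  set j := n.factorization 2 with hj
  set m := 2 ^ j with hm
  set n' := n / m with hn'
  have hsplit : n = m * n' := (Nat.ordProj_mul_ordCompl_eq_self n 2).symm
  have hodd : Odd n' := Nat.not_even_iff_odd.1 fun e =>
    Nat.not_dvd_ordCompl Nat.prime_two Nat.card_pos.ne' e.two_dvd
  have hj0 : j ≠ 0 := (Nat.prime_two.factorization_pos_of_dvd Nat.card_pos.ne' h.two_dvd).ne'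
  set C := centralizer ({t} : Set X) with hC
  obtain ⟨T⟩ := (inferInstance : Nonempty (Sylow 2 C))
  have hTcard : Nat.card T = 2 * m := by
    rw [T.card_eq_multiplicity, hC, h.card, ← hn,
      Nat.factorization_mul (by norm_num) Nat.card_pos.ne', Finsupp.add_apply, Nat.prime_two.factorization_self,
      pow_add, pow_one, ← hj, ← hm]
  set a := k₀ ^ n' with ha
  have hamem : a ∈ K := hgen ▸ pow_mem (mem_zpowers _) _
  have hap : IsPGroup 2 (zpowers (⟨a, h.hle hamem⟩ : C)) := by
    refine IsPGroup.of_card (n := j) ?_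
    rw [Nat.card_zpowers, Subgroup.orderOf_mk, ha, orderOf_pow' _ hodd.pos.ne', hord, Nat.gcd_eq_right ⟨m, by rw [hsplit]; ring⟩,
      hsplit, Nat.mul_div_cancel _ hodd.pos]
  obtain ⟨T', hT'⟩ := hap.exists_le_sylow
  have hT'card : Nat.card T' = 2 * m := by
    rw [T'.card_eq_multiplicity, ← T.card_eq_multiplicity, hTcard]
  have hmap : IsPGroup 2 ((T' : Subgroup C).map C.subtype) := T'.2.map _
  let S : Sylow 2 X := Sylow.ofCard ((T' : Subgroup C).map C.subtype) (by
    rw [Subgroup.card_map_of_injective C.subtype_injective, hT'card, ← C.card_mul_index, hC, h.card, ← hn,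
      Nat.factorization_mul (mul_ne_zero two_ne_zero Nat.card_pos.ne') (Subgroup.index_ne_zero_of_finite),
      Nat.factorization_mul (by norm_num) Nat.card_pos.ne', Finsupp.add_apply, Finsupp.add_apply,
      Nat.prime_two.factorization_self, Nat.factorization_eq_zero_of_not_dvd h.odd_index, add_zero,
      pow_add, pow_one, ← hj, ← hm])
  have hScard : Nat.card (S : Subgroup X) = 2 * m := by
    simp only [S, Sylow.coe_ofCard, Subgroup.card_map_of_injective C.subtype_injective, hT'card]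
  have haS : a ∈ (S : Subgroup X) := by
    simp only [S, Sylow.coe_ofCard]
    exact ⟨⟨a, h.hle hamem⟩, hT' (mem_zpowers _), rfl⟩
  have hSC : (S : Subgroup X) ≤ C := by
    simp only [S, Sylow.coe_ofCard]; exact map_subtype_le _
  -- an involution other than `t`
  obtain ⟨s, hsS, hs, hst⟩ : ∃ s ∈ (S : Subgroup X), orderOf s = 2 ∧ s ≠ t := by
    by_contra hall
    push Not at hall
    have huniq : ∀ x y : (S : Subgroup X), orderOf x = 2 → orderOf y = 2 → y ∈ zpowers x := by
      intro x y hx hy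
      rw [← Subgroup.orderOf_coe] at hx hy
      exact (Subtype.ext ((hall y y.2 hy).trans (hall x x.2 hx).symm) : y = x) ▸ mem_zpowers _
    rcases Cfsg.Lib.UniqueSub.isCyclic_or_quaternion S.2 huniq with hc | ⟨-, i, ⟨e⟩⟩
    · exact h.sylow_two_not_cyclic S hc
    · exact h.sylow_two_not_quaternion S i e
  refine ⟨k₀, a, s, m, n', S, hgen, hord, hsplit, ⟨j, hj0, rfl⟩, hodd, rfl, hs, hSC hsS, fun hsK => ?_, haS, hsS,
    hScard⟩
  rcases h.eq_t hsK (sq_of_order_two hs) with e | e
  · exact ne_one_of_order_two hs e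
  · exact hst e

section

variable {k₀ a s : X} {m n' : ℕ} {S : Sylow 2 X} (g : Gen t K k₀ a s m n' S)
include g

theorem n'_pos : 0 < n' := g.odd.pos

theorem k₀_mem : k₀ ∈ K := g.gen ▸ mem_zpowers _

theorem a_mem : a ∈ K := g.ha ▸ pow_mem (k₀_mem h g) _

theorem order_a : orderOf a = m := by
  rw [g.ha, orderOf_pow' _ g.odd.pos.ne', g.ord, g.split, Nat.gcd_mul_left_left, Nat.mul_div_cancel _ g.odd.pos]

theorem two_dvd_m : 2 ∣ m := by
  obtain ⟨j, hj, rfl⟩ := g.two
  exact dvd_pow_self 2 hj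

theorem m_pos : 0 < m := by
  obtain ⟨j, -, rfl⟩ := g.two
  positivity

theorem t_eq : t = a ^ (m / 2) := by
  have hh := h.eq_t (pow_mem (a_mem h g) (m / 2)) (by
    rw [← pow_add, show m / 2 + m / 2 = m by have := two_dvd_m h g; omega, ← order_a h g, pow_orderOf_eq_one])
  rcases hh with e | e
  · have := orderOf_dvd_of_pow_eq_one e
    rw [order_a h g] at this
    have h2 := two_dvd_m h g
    have h3 := m_pos h g
    have := Nat.le_of_dvd (by omega) this
    omega
  · exact e.symm

theorem t_mem_za : t ∈ zpowers a := t_eq h g ▸ pow_mem (mem_zpowers _) _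

theorem s_inv : s⁻¹ = s := inv_of_order_two g.hs

theorem ss : s * s = 1 := sq_of_order_two g.hs

/-- The action of `s` on `K`. -/
theorem exists_exp : ∃ i : ℤ, (∀ j : ℤ, s * k₀ ^ j * s = k₀ ^ (i * j)) ∧ (Nat.card K : ℤ) ∣ i * i - 1 := by
  have hmem : s * k₀ * s⁻¹ ∈ K := by
    by_contra hne
    have hC : s * k₀ * s⁻¹ ∈ centralizer ({t} : Set X) :=
      mul_mem (mul_mem g.hsC (h.hle (k₀_mem h g))) (inv_mem g.hsC)
    have := h.mem_C g.hsC g.hsK hC hne
    rw [show s * k₀ * s⁻¹ * s⁻¹ = s * k₀ * (s * s)⁻¹ by group, ss h g, inv_one, mul_one] at this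
    exact g.hsK ((mul_mem_cancel_right (k₀_mem h g)).1 this)
  rw [← g.gen] at hmem
  obtain ⟨i, hi⟩ := hmem
  have hi' : s * k₀ * s⁻¹ = k₀ ^ i := hi.symm
  have hj : ∀ j : ℤ, s * k₀ ^ j * s = k₀ ^ (i * j) := fun j => by
    calc s * k₀ ^ j * s = s * k₀ ^ j * s⁻¹ := by rw [s_inv h g]
      _ = _ := by rw [← conj_zpow, hi', ← zpow_mul]
  refine ⟨i, hj, ?_⟩
  rw [← g.ord, orderOf_dvd_iff_zpow_eq_one, zpow_sub, ← hj i, zpow_one,
    show k₀ ^ i = s * k₀ * s by rw [← hi', s_inv h g]]
  calc s * (s * k₀ * s) * s * k₀⁻¹ = (s * s) * k₀ * (s * s) * k₀⁻¹ := by group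
    _ = 1 := by rw [ss h g]; group

theorem mem_S_iff {x : X} : x ∈ (S : Subgroup X) ↔ ∃ j : ℤ, x = a ^ j ∨ x = a ^ j * s := by
  classical
  constructor
  · intro hx
    have hdisj : ∀ j j' : ℤ, a ^ j ≠ a ^ j' * s := fun j j' e => g.hsK (by
      rw [show s = (a ^ j')⁻¹ * a ^ j by rw [e]; group]
      exact mul_mem (inv_mem (zpow_mem (a_mem h g) _)) (zpow_mem (a_mem h g) _))
    let F : zpowers a ⊕ zpowers a → (S : Subgroup X) := Sum.elim
      (fun b => ⟨b, zpowers_le.2 g.haS b.2⟩) (fun b => ⟨b * s, mul_mem (zpowers_le.2 g.haS b.2) g.hsS⟩)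
    have hF : Function.Bijective F := by
      have hinj : Function.Injective F := by
        rintro (⟨_, j, rfl⟩ | ⟨_, j, rfl⟩) (⟨_, j', rfl⟩ | ⟨_, j', rfl⟩) e <;>
          have e' := congrArg Subtype.val e <;> simp only [F, Sum.elim_inl, Sum.elim_inr] at e'
        · exact congrArg Sum.inl (Subtype.ext e')
        · exact absurd e' (hdisj j j')
        · exact absurd e'.symm (hdisj j' j)
        · exact congrArg Sum.inr (Subtype.ext (mul_right_cancel e'))
      have := Fintype.ofFinite (zpowers a)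
      have := Fintype.ofFinite (S : Subgroup X)
      refine (Fintype.bijective_iff_injective_and_card F).2 ⟨hinj, ?_⟩
      rw [← Nat.card_eq_fintype_card, ← Nat.card_eq_fintype_card, g.cardS, Nat.card_sum, Nat.card_zpowers,
        order_a h g]; omega
    obtain ⟨b | b, hb⟩ := hF.2 ⟨x, hx⟩ <;> obtain ⟨_, j, rfl⟩ := b
    · exact ⟨j, Or.inl (congrArg Subtype.val hb).symm⟩
    · exact ⟨j, Or.inr (congrArg Subtype.val hb).symm⟩
  · rintro ⟨j, rfl | rfl⟩
    · exact zpow_mem g.haS _
    · exact mul_mem (zpow_mem g.haS _) g.hsS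

/-- All involutions are conjugate. -/
theorem all_conj {x y : X} (hx : orderOf x = 2) (hy : orderOf y = 2) : IsConj x y := by
  haveI : Fact (Nat.Prime 2) := ⟨Nat.prime_two⟩
  suffices key : ∀ z : X, orderOf z = 2 → IsConj t z from (key x hx).symm.trans (key y hy)
  intro z hz
  obtain ⟨T, hT⟩ := (IsPGroup.of_card (n := 1) (by rw [Nat.card_zpowers, hz, pow_one] :
    Nat.card (zpowers z) = 2 ^ 1)).exists_le_sylow
  obtain ⟨w, hw⟩ := MulAction.exists_smul_eq X T S
  have hzS : w * z * w⁻¹ ∈ (S : Subgroup X) := by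
    rw [← hw, Sylow.coe_subgroup_smul]; exact ⟨z, hT (mem_zpowers _), rfl⟩
  have ho : orderOf (w * z * w⁻¹) = 2 := (MulEquiv.orderOf_eq (MulAut.conj w) z).trans hz
  refine IsConj.trans ?_ (isConj_iff.2 ⟨w, rfl⟩).symm
  obtain ⟨v, hv⟩ : ∃ v, v = w * z * w⁻¹ := ⟨_, rfl⟩
  rw [← hv] at hzS ho ⊢
  clear hv hw hT
  by_cases hvA : v ∈ zpowers a
  · rcases h.eq_t (zpowers_le.2 (a_mem h g) hvA) (sq_of_order_two ho) with e | e
    · exact absurd e (ne_one_of_order_two ho)
    · rw [e]
  · have hrel : (zpowers a).relIndex (S : Subgroup X) = 2 := by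
      have h1 := ((zpowers a).subgroupOf (S : Subgroup X)).card_mul_index
      rw [Nat.card_congr (subgroupOfEquivOfLe (zpowers_le.2 g.haS)).toEquiv, Nat.card_zpowers, order_a h g,
        g.cardS, mul_comm 2] at h1
      exact Nat.eq_of_mul_eq_mul_left (m_pos h g) h1
    rcases Cfsg.Agent.S0111.result S (zpowers a) (zpowers_le.2 g.haS) hrel v ho hzS hvA with ⟨M, -, hM, -⟩ | ⟨u, hu⟩
    · exact absurd hM (h.index_ne_two M)
    · rcases h.eq_t (zpowers_le.2 (a_mem h g) hu) (by
        calc u * v * u⁻¹ * (u * v * u⁻¹) = u * (v * v) * u⁻¹ := by group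
          _ = 1 := by rw [sq_of_order_two ho]; group) with e | e
      · exact absurd (conj_eq_one_iff.1 e) (ne_one_of_order_two ho)
      · exact (isConj_iff.2 ⟨u, e⟩).symm

/-- The two-part is inverted. -/
theorem two_part {i : ℤ} (hi : ∀ j : ℤ, s * k₀ ^ j * s = k₀ ^ (i * j)) (hsq : (Nat.card K : ℤ) ∣ i * i - 1) :
    (m : ℤ) ∣ i + 1 := by
  classical
  haveI : Fact (Nat.Prime 2) := ⟨Nat.prime_two⟩
  have hsa : ∀ j : ℤ, s * a ^ j * s = a ^ (i * j) := fun j => by
    rw [g.ha, ← zpow_natCast, ← zpow_mul, hi, ← zpow_mul, mul_left_comm]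
  have hsas : ∀ j : ℤ, s * a ^ j = a ^ (i * j) * s := fun j => by
    rw [← hsa j, mul_assoc (s * a ^ j), ss h g, mul_one]
  have hmi : (m : ℤ) ∣ i * i - 1 := (show (m : ℤ) ∣ (Nat.card K : ℤ) by
    exact_mod_cast (g.split ▸ dvd_mul_right m n' : m ∣ Nat.card K)).trans hsq
  have hsqr : ∀ j : ℤ, (a ^ j * s) * (a ^ j * s) = a ^ (j * (1 + i)) := fun j => by
    calc (a ^ j * s) * (a ^ j * s) = a ^ j * (s * a ^ j) * s := by group
      _ = a ^ j * a ^ (i * j) * (s * s) := by rw [hsas]; group
      _ = _ := by rw [ss h g, mul_one, ← zpow_add]; ring_nf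
  have hzero : ∀ z : ℤ, a ^ z = 1 ↔ (m : ℤ) ∣ z := fun z => by
    rw [← orderOf_dvd_iff_zpow_eq_one, order_a h g]
  obtain ⟨j₀, hj₀, hm⟩ := g.two
  rcases Nat.lt_or_ge j₀ 2 with hlt | hge
  · have hm2 : (m : ℤ) = 2 := by rw [hm, show j₀ = 1 by omega]; norm_num
    rw [hm2] at hmi ⊢
    rcases Int.emod_two_eq_zero_or_one i with r | r
    · obtain ⟨c, rfl⟩ := Int.dvd_of_emod_eq_zero r
      obtain ⟨d, hd⟩ := hmi
      have : 2 * (2 * c * c - d) = 1 := by linear_combination hd
      omega
    · omega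
  obtain ⟨j₁, rfl⟩ : ∃ j₁, j₀ = j₁ + 2 := ⟨j₀ - 2, by omega⟩
  -- `m = 4 q`
  obtain ⟨q, hq⟩ : ∃ q : ℕ, q = 2 ^ j₁ := ⟨_, rfl⟩
  have hm4 : m = 4 * q := by rw [hm, hq, pow_add]; ring
  have hm4' : (m : ℤ) = 4 * q := by exact_mod_cast hm4
  have hiodd : i % 2 = 1 := by
    by_contra hne
    obtain ⟨c, rfl⟩ := Int.dvd_of_emod_eq_zero (show i % 2 = 0 by omega)
    obtain ⟨d, hd⟩ := hmi
    rw [hm4'] at hd
    have : 2 * (2 * c * c - 2 * q * d) = 1 := by linear_combination hd
    omega
  obtain ⟨c, hc⟩ : ∃ c, i = 2 * c + 1 := ⟨i / 2, by omega⟩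
  subst hc
  have hcc : (q : ℤ) ∣ c * (c + 1) := by
    obtain ⟨d, hd⟩ := hmi
    refine ⟨d, ?_⟩
    rw [hm4'] at hd
    linarith
  -- the subgroup generated by the squares and `s`
  let M : Subgroup X :=
    { carrier := {x | ∃ j : ℤ, x = a ^ (2 * j) ∨ x = a ^ (2 * j) * s}
      one_mem' := ⟨0, Or.inl (by simp)⟩
      mul_mem' := by
        rintro _ _ ⟨j, rfl | rfl⟩ ⟨j', rfl | rfl⟩
        · exact ⟨j + j', Or.inl (by rw [← zpow_add]; ring_nf)⟩
        · exact ⟨j + j', Or.inr (by rw [← mul_assoc, ← zpow_add]; ring_nf)⟩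
        · refine ⟨j + (2 * c + 1) * j', Or.inr ?_⟩
          rw [mul_assoc, hsas, ← mul_assoc, ← zpow_add]; ring_nf
        · refine ⟨j + (2 * c + 1) * j', Or.inl ?_⟩
          rw [mul_assoc, ← mul_assoc s, hsas, mul_assoc _ s s, ss h g, mul_one, ← zpow_add]; ring_nf
      inv_mem' := by
        rintro _ ⟨j, rfl | rfl⟩
        · exact ⟨-j, Or.inl (by rw [← zpow_neg]; ring_nf)⟩
        · refine ⟨-((2 * c + 1) * j), Or.inr ?_⟩
          rw [mul_inv_rev, s_inv h g, ← zpow_neg, hsas]; ring_nf }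
  have hMS : M ≤ (S : Subgroup X) := by
    rintro x ⟨j, hx⟩; exact (mem_S_iff h g).2 ⟨2 * j, hx⟩
  have hAM : a ∉ M := by
    rintro ⟨j, e | e⟩
    · have : a ^ (1 - 2 * j) = 1 := by rw [zpow_sub, zpow_one, ← e, mul_inv_cancel]
      obtain ⟨d, hd⟩ := (hzero _).1 this
      rw [hm4'] at hd
      have : (1 : ℤ) = 2 * (j + 2 * q * d) := by linear_combination hd
      omega
    · exact g.hsK (by
        rw [show s = (a ^ (2 * j))⁻¹ * a from eq_inv_mul_of_mul_eq e.symm]
        exact mul_mem (inv_mem (zpow_mem (a_mem h g) _)) (a_mem h g))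
  have hparity : ∀ x ∈ (S : Subgroup X), x ∈ M ∨ ∃ j : ℤ, x = a ^ (2 * j + 1) ∨ x = a ^ (2 * j + 1) * s := by
    intro x hx
    obtain ⟨j, hj⟩ := (mem_S_iff h g).1 hx
    rcases Int.emod_two_eq_zero_or_one j with r | r <;> obtain ⟨l, hl⟩ : ∃ l, l = j / 2 := ⟨_, rfl⟩
    · exact Or.inl ⟨l, by rwa [show 2 * l = j by omega]⟩
    · exact Or.inr ⟨l, by rwa [show 2 * l + 1 = j by omega]⟩
  have hrel : M.relIndex (S : Subgroup X) = 2 := by
    refine Subgroup.index_eq_two_iff.2 ⟨⟨a, g.haS⟩, fun b => ?_⟩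
    show Xor ((b : X) * a ∈ M) ((b : X) ∈ M)
    have hsM : s ∈ M := ⟨0, Or.inr (by simp)⟩
    have ha2 : a * a ∈ M := ⟨1, Or.inl (by rw [show (2 : ℤ) * 1 = ((2 : ℕ) : ℤ) from rfl, zpow_natCast, pow_two])⟩
    have hout : ∀ x ∈ M, x * a ∉ M := fun x hx hxa => hAM ((mul_mem_cancel_left hx).1 hxa)
    rcases hparity b b.2 with hb | ⟨j, hb⟩
    · exact Or.inr ⟨hb, hout _ hb⟩
    · refine Or.inl ⟨?_, fun hbM => ?_⟩
      · rcases hb with hb | hb <;> rw [hb]
        · exact ⟨j + 1, Or.inl (by rw [← zpow_add_one]; ring_nf)⟩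
        · refine ⟨j + c + 1, Or.inr ?_⟩
          have := hsas 1
          rw [zpow_one] at this
          rw [mul_assoc, this, ← mul_assoc, ← zpow_add]; ring_nf
      · rcases hb with hb | hb <;> rw [hb] at hbM
        · refine hAM ?_
          rw [zpow_add_one] at hbM
          exact (mul_mem_cancel_left (show a ^ (2 * j) ∈ M from ⟨j, Or.inl rfl⟩)).1 hbM
        · refine hAM ?_
          have := (mul_mem_cancel_right hsM).1 hbM
          rw [zpow_add_one] at this
          exact (mul_mem_cancel_left (show a ^ (2 * j) ∈ M from ⟨j, Or.inl rfl⟩)).1 this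
  have hev : Even (Nat.card X) := even_iff_two_dvd.2 (h.ht ▸ orderOf_dvd_natCard t)
  have hpow_ne : ∀ z : ℤ, z % 2 = 1 → a ^ (2 * (q : ℤ) * z) ≠ 1 := fun z hz e => by
    obtain ⟨d, hd⟩ := (hzero _).1 e
    rw [hm4'] at hd
    have hq0 : (q : ℤ) ≠ 0 := by rw [hq]; positivity
    have : z = 2 * d := mul_left_cancel₀ hq0 (by linarith)
    omega
  rcases Int.emod_two_eq_zero_or_one c with hc | hc
  · -- outside `M` every element has order `m`
    exfalso
    have hsplitpow : ∀ x : X, x ^ (2 ^ (j₁ + 2)) = x ^ (2 * (q : ℤ) * 2) ∧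
        x ^ (2 ^ (j₁ + 1)) = x ^ (2 * (q : ℤ) * 1) := fun x => by
      constructor <;> rw [← zpow_natCast] <;> congr 1 <;> rw [hq] <;> push_cast <;> ring
    have hout : ∀ j : ℤ, orderOf (a ^ (2 * j + 1)) = 2 ^ (j₁ + 2) ∧
        orderOf (a ^ (2 * j + 1) * s) = 2 ^ (j₁ + 2) := by
      intro j
      constructor
      · refine orderOf_eq_prime_pow ?_ ?_
        · rw [(hsplitpow _).2, ← zpow_mul]
          refine fun e => hpow_ne ((2 * j + 1) * 1) (by omega) ?_
          rw [← e]; ring_nf
        · rw [(hsplitpow _).1, ← zpow_mul, hzero, hm4']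
          exact ⟨2 * j + 1, by ring⟩
      · have hy : ∀ z : ℤ, (a ^ (2 * j + 1) * s) ^ (2 * (q : ℤ) * z) =
            a ^ (2 * (q : ℤ) * ((2 * j + 1) * (c + 1) * z)) := fun z => by
          rw [show 2 * (q : ℤ) * z = 2 * ((q : ℤ) * z) by ring, zpow_mul, zpow_two, hsqr, ← zpow_mul]
          congr 1; ring
        refine orderOf_eq_prime_pow ?_ ?_
        · rw [(hsplitpow _).2, hy]
          refine hpow_ne _ ?_
          rw [mul_one, Int.mul_emod]
          have : (2 * j + 1) % 2 = 1 := by omega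
          have : (c + 1) % 2 = 1 := by omega
          simp [*]
        · rw [(hsplitpow _).1, hy, hzero, hm4']
          exact ⟨(2 * j + 1) * (c + 1), by ring⟩
    obtain ⟨u, hu⟩ := Cfsg.Agent.S3225.result hev h.index_ne_two S M hMS hrel (j₁ + 2) (by omega)
      (fun y hy hyM => by
        rcases hparity y hy with e | ⟨j, e⟩
        · exact absurd e hyM
        · have : orderOf y = 2 ^ (j₁ + 2) := by rcases e with rfl | rfl; exacts [(hout j).1, (hout j).2]
          rw [this]
          exact Nat.pow_lt_pow_right (by norm_num) (by omega))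
      a g.haS (by rw [order_a h g, hm])
    obtain ⟨j, hj⟩ := hu
    have hone : (u * a * u⁻¹) ^ (2 * (q : ℤ)) = 1 := by
      rcases hj with e | e <;> rw [e]
      · rw [← zpow_mul, hzero, hm4']; exact ⟨j, by ring⟩
      · rw [zpow_mul, zpow_two, hsqr, ← zpow_mul, hzero, hm4']
        exact ⟨j * (c + 1), by ring⟩
    rw [conj_zpow, conj_eq_one_iff] at hone
    exact hpow_ne 1 (by norm_num) (by rw [mul_one]; exact hone)
  · have hqc : (q : ℤ) ∣ c + 1 := by
      have hco : IsCoprime (q : ℤ) c := by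
        rw [hq, Nat.cast_pow]
        refine IsCoprime.pow_left ?_
        exact ⟨-(c / 2), 1, by push_cast; omega⟩
      exact hco.dvd_of_dvd_mul_left hcc
    obtain ⟨d, hd⟩ := hqc
    rcases Int.emod_two_eq_zero_or_one d with hdd | hdd
    · obtain ⟨e, rfl⟩ := Int.dvd_of_emod_eq_zero hdd
      exact ⟨e, by rw [hm4']; linear_combination 2 * hd⟩
    exfalso
    have hqeven : (q : ℤ) % 2 = 0 := by
      rcases Int.emod_two_eq_zero_or_one (q : ℤ) with r | r
      · exact r
      · have h1 : (c + 1) % 2 = 1 := by rw [hd, Int.mul_emod, r, hdd]; norm_num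
        omega
    have hsq2 : ∀ j : ℤ, (a ^ j * s) * (a ^ j * s) = a ^ (2 * (q : ℤ) * (d * j)) := fun j => by
      rw [hsqr]; congr 1; linear_combination (2 * j) * hd
    have hout : ∀ j : ℤ, (a ^ (2 * j + 1) * s) * (a ^ (2 * j + 1) * s) ≠ 1 := fun j => by
      rw [hsq2]
      refine hpow_ne _ ?_
      rw [Int.mul_emod, hdd]
      omega
    have hbig : ∀ y : X, y * y ≠ 1 → 2 < orderOf y := fun y hy => by
      by_contra hle
      have := orderOf_pos y
      have h1 : y ^ orderOf y = 1 := pow_orderOf_eq_one y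
      interval_cases orderOf y
      · rw [pow_one] at h1; exact hy (by rw [h1, one_mul])
      · rw [pow_two] at h1; exact hy h1
    have hx4 : orderOf (a * s) = 2 ^ 2 := by
      have h2 := hout 0
      rw [mul_zero, zero_add, zpow_one] at h2
      refine orderOf_eq_prime_pow (n := 1) (by rwa [pow_one, pow_two]) ?_
      have := hsq2 1
      rw [zpow_one] at this
      rw [show (2 ^ (1 + 1)) = 2 * 2 from rfl, pow_mul, pow_two (a * s), this, pow_two, ← zpow_add, hzero, hm4']
      exact ⟨d, by ring⟩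
    obtain ⟨u, hu⟩ := Cfsg.Agent.S3225.result hev h.index_ne_two S M hMS hrel 2 (by norm_num)
      (fun y hy hyM => by
        refine hbig y ?_
        rcases hparity y hy with e | ⟨j, e⟩
        · exact absurd e hyM
        rcases e with rfl | rfl
        · rw [← zpow_add, ne_eq, hzero, hm4']
          rintro ⟨e, he⟩
          obtain ⟨w, hw⟩ := Int.dvd_of_emod_eq_zero hqeven
          rw [hw, show 4 * (2 * w) * e = 8 * (w * e) by ring] at he
          omega
        · exact hout j)
      (a * s) (mul_mem g.haS g.hsS) hx4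
    obtain ⟨j, hj⟩ := hu
    have hne : ∀ z : ℤ, u * (a * s) * u⁻¹ ≠ a ^ (2 * z) * s := fun z e => by
      have h2 : (u * (a * s) * u⁻¹) * (u * (a * s) * u⁻¹) = 1 := by
        rw [e, hsq2, hzero, hm4']; exact ⟨d * z, by ring⟩
      have h3 : (u * (a * s) * u⁻¹) * (u * (a * s) * u⁻¹) = u * ((a * s) * (a * s)) * u⁻¹ := by group
      rw [h3, conj_eq_one_iff] at h2
      exact hout 0 (by rw [mul_zero, zero_add, zpow_one]; exact h2)
    have hk := hj.resolve_right (hne j)
    -- compare the centralisers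
    set x := a * s with hx
    have hxC : centralizer ({x} : Set X) ≤ centralizer ({t} : Set X) := fun y hy => by
      have hxx : x * x = a ^ (2 * (q : ℤ) * (d * 1)) := by
        have := hsq2 1; rwa [zpow_one] at this
      have ht2 : x * x = t := by
        rw [hxx]
        refine (h.eq_t (zpow_mem (a_mem h g) _) ?_).resolve_left (hpow_ne _ (by omega))
        rw [← zpow_add, hzero, hm4']; exact ⟨d, by ring⟩
      rw [mem_centralizer_singleton_iff] at hy ⊢
      rw [← ht2, ← mul_assoc, hy, mul_assoc, hy, ← mul_assoc]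
    have hcard : Nat.card (centralizer ({x} : Set X)) = Nat.card (centralizer ({a ^ (2 * j)} : Set X)) := by
      rw [← hk]
      refine Nat.card_congr (((MulAut.conj u).toEquiv.subtypeEquiv fun y => ?_))
      simp only [SetLike.mem_coe, mem_centralizer_singleton_iff]
      show y * x = x * y ↔ u * y * u⁻¹ * (u * x * u⁻¹) = u * x * u⁻¹ * (u * y * u⁻¹)
      constructor
      · intro e
        calc _ = u * (y * x) * u⁻¹ := by group
          _ = _ := by rw [e]; group
      · intro e
        calc y * x = u⁻¹ * (u * y * u⁻¹ * (u * x * u⁻¹)) * u := by group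
          _ = _ := by rw [e]; group
    have hlow : Nat.card K ≤ Nat.card (centralizer ({a ^ (2 * j)} : Set X)) :=
      Subgroup.card_le_of_le (h.le_cent (zpow_mem (a_mem h g) _))
    -- the fixed points of `s` on `K`
    set F := K ⊓ centralizer ({s} : Set X) with hF
    have hFa : ∀ z : ℤ, a ^ z ∈ F → (m : ℤ) ∣ 2 * c * z := fun z hz => by
      have h1 := (mem_inf.1 hz).2
      rw [mem_centralizer_singleton_iff] at h1
      rw [← hzero, show 2 * c * z = (2 * c + 1) * z - z by ring, zpow_sub, ← hsa z, mul_assoc s, h1,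
        ← mul_assoc s, ss h g, one_mul, mul_inv_cancel]
    have hcq : ¬ (q : ℤ) ∣ c := fun ⟨e, he⟩ => by
      have : c % 2 = 0 := by rw [he, Int.mul_emod, hqeven]; norm_num
      omega
    have h3 : 2 < F.relIndex K := by
      by_contra hle
      have hpos : F.relIndex K ≠ 0 := Subgroup.index_ne_zero_of_finite (H := F.subgroupOf K)
      have hsqF : a * a ∈ F := by
        rcases (show F.relIndex K = 1 ∨ F.relIndex K = 2 by omega) with e | e
        · have := Subgroup.relIndex_eq_one.1 e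
          exact mul_mem (this (a_mem h g)) (this (a_mem h g))
        · have := Subgroup.mul_self_mem_of_index_two (H := F.subgroupOf K) e ⟨a, a_mem h g⟩
          exact this
      rw [← zpow_two] at hsqF
      obtain ⟨e, he⟩ := hFa 2 hsqF
      rw [hm4'] at he
      exact hcq ⟨e, by linarith⟩
    have hup : Nat.card (centralizer ({x} : Set X)) ≤ 2 * Nat.card F := by
      classical
      have hmem : ∀ y : centralizer ({x} : Set X), ((y : X) ∈ K → (y : X) ∈ F) ∧
          ((y : X) ∉ K → (y : X) * x⁻¹ ∈ F) := by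
        intro y
        have key : ∀ w : X, w ∈ K → Commute w x → w ∈ F := by
          intro w hw hc
          refine mem_inf.2 ⟨hw, mem_centralizer_singleton_iff.2 ?_⟩
          have h1 : Commute w a := h.comm hw (a_mem h g)
          have : s = a⁻¹ * x := by rw [hx]; group
          rw [this]
          exact (h1.inv_right.mul_right hc).eq
        refine ⟨fun hy => key _ hy (mem_centralizer_singleton_iff.1 y.2), fun hy => ?_⟩
        refine key _ (h.mem_C (mul_mem (h.hle (a_mem h g)) g.hsC) ?_ (hxC y.2) hy) ?_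
        · intro e; exact g.hsK ((mul_mem_cancel_left (a_mem h g)).1 e)
        · exact (Commute.mul_left (mem_centralizer_singleton_iff.1 y.2) ((Commute.refl x).inv_left))
      let Φ : centralizer ({x} : Set X) → F ⊕ F := fun y =>
        if hy : (y : X) ∈ K then Sum.inl ⟨y, (hmem y).1 hy⟩ else Sum.inr ⟨(y : X) * x⁻¹, (hmem y).2 hy⟩
      have hinj : Function.Injective Φ := by
        intro y z e
        simp only [Φ] at e
        split_ifs at e with hy hz hz <;> simp at e <;> exact e
      have := Nat.card_le_card_of_injective Φ hinj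
      rw [Nat.card_sum] at this
      omega
    have h4 : Nat.card F * F.relIndex K = Nat.card K := by
      have := (F.subgroupOf K).card_mul_index
      rwa [Nat.card_congr (subgroupOfEquivOfLe (inf_le_left : F ≤ K)).toEquiv] at this
    have hFpos : 0 < Nat.card F := Nat.card_pos
    nlinarith

/-- The odd part is inverted. -/
theorem no_fixed {r : ℕ} (hr : r.Prime) (hr2 : r ≠ 2) {c : X} (hc : orderOf c = r) (hcK : c ∈ K) :
    s * c ≠ c * s := by
  classical
  intro hcs
  haveI : Fact r.Prime := ⟨hr⟩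
  have hc1 : c ≠ 1 := fun e => hr.ne_one (by rw [← hc, e, orderOf_one])
  set C := centralizer ({t} : Set X) with hCdef
  have hsupC : C = K ⊔ zpowers s := by
    refine le_antisymm (fun x hx => ?_) (sup_le h.hle (zpowers_le.2 g.hsC))
    by_cases hxK : x ∈ K
    · exact mem_sup_left hxK
    · rw [show x = x * s⁻¹ * s by group]
      exact mul_mem (mem_sup_left (h.mem_C g.hsC g.hsK hx hxK)) (mem_sup_right (mem_zpowers s))
  have hCc : centralizer ({c} : Set X) = C := by
    symm
    refine Subgroup.eq_of_le_of_card_ge ?_ ((h.cent c hcK hc1).trans h.card.ge)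
    rw [hsupC]
    exact sup_le (h.le_cent hcK) (zpowers_le.2 (mem_centralizer_singleton_iff.2 hcs))
  -- the Sylow subgroup for `r`
  obtain ⟨R, hR⟩ := (IsPGroup.of_card (n := 1) (by rw [Nat.card_zpowers, hc, pow_one] :
    Nat.card (zpowers c) = r ^ 1)).exists_le_sylow
  obtain ⟨i, hi, hsq⟩ := exists_exp h g
  obtain ⟨T, hT⟩ : ∃ T : Sylow r X, (T : Subgroup X) ≤ K ∧ c ∈ (T : Subgroup X) := by
    have hrK : r ∣ Nat.card K := hc ▸ Subgroup.orderOf_dvd_natCard K hcK
    obtain ⟨T₀, hT₀⟩ := (IsPGroup.of_card (n := 1) (by rw [Nat.card_zpowers, Subgroup.orderOf_mk, hc, pow_one] :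
      Nat.card (zpowers (⟨c, hcK⟩ : K)) = r ^ 1)).exists_le_sylow
    refine ⟨Sylow.ofCard ((T₀ : Subgroup K).map K.subtype) ?_, map_subtype_le _,
      ⟨⟨c, hcK⟩, hT₀ (mem_zpowers _), rfl⟩⟩
    rw [Subgroup.card_map_of_injective K.subtype_injective, T₀.card_eq_multiplicity, h.card_X,
      Nat.factorization_mul (mul_ne_zero two_ne_zero Nat.card_pos.ne') (Subgroup.index_ne_zero_of_finite),
      Nat.factorization_mul (by norm_num) Nat.card_pos.ne', Finsupp.add_apply, Finsupp.add_apply,
      Nat.factorization_eq_zero_of_not_dvd (h.hall r hr hrK),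
      Nat.factorization_eq_zero_of_not_dvd (show ¬ r ∣ 2 from fun e => hr2 ((Nat.prime_dvd_prime_iff_eq hr Nat.prime_two).1 e)),
      zero_add, add_zero]
  obtain ⟨hTK, hcT⟩ := hT
  haveI hTcyc : IsCyclic (T : Subgroup X) := by
    haveI := h.cyc
    exact isCyclic_of_injective (Subgroup.inclusion hTK) (Subgroup.inclusion_injective _)
  -- the normaliser of the Sylow subgroup moves `c` inside its group
  have hmove : ∀ u ∈ normalizer ((T : Subgroup X) : Set X), u * c * u⁻¹ ∈ zpowers c := by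
    intro u hu
    have h1 : u * c * u⁻¹ ∈ (T : Subgroup X) := (mem_normalizer_iff.1 hu c).1 hcT
    haveI := Fintype.ofFinite (T : Subgroup X)
    obtain ⟨w, hw⟩ := hTcyc.exists_generator
    have key : zpowers (⟨u * c * u⁻¹, h1⟩ : (T : Subgroup X)) = zpowers (⟨c, hcT⟩ : (T : Subgroup X)) := by
      refine Cfsg.Lib.SolvStruct.CyclicProduct.eq_of_card_eq_of_isCyclic le_top le_top ?_
      rw [Nat.card_zpowers, Nat.card_zpowers, Subgroup.orderOf_mk, Subgroup.orderOf_mk]
      exact MulEquiv.orderOf_eq (MulAut.conj u) c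
    obtain ⟨l, hl⟩ := (key ▸ mem_zpowers (⟨u * c * u⁻¹, h1⟩ : (T : Subgroup X)))
    exact ⟨l, congrArg Subtype.val hl⟩
  have hCN : ∀ u ∈ normalizer ((T : Subgroup X) : Set X), ∀ y ∈ C, u * y * u⁻¹ ∈ C := by
    intro u hu y hy
    obtain ⟨l, hl⟩ := hmove u⁻¹ (inv_mem hu)
    have hl' : c ^ l = u⁻¹ * c * u⁻¹⁻¹ := hl
    rw [← hCc] at hy ⊢
    have h2 : Commute y (c ^ l) := Commute.zpow_right (mem_centralizer_singleton_iff.1 hy) l
    rw [hl', inv_inv] at h2
    rw [mem_centralizer_singleton_iff]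
    calc u * y * u⁻¹ * c = u * (y * (u⁻¹ * c * u)) * u⁻¹ := by group
      _ = u * (u⁻¹ * c * u * y) * u⁻¹ := by rw [h2.eq]
      _ = _ := by group
  by_cases hfix : ∀ u ∈ normalizer ((T : Subgroup X) : Set X), u * t * u⁻¹ = t
  · have hT1 : (T : Subgroup X) ≠ ⊥ := fun e => hc1 (by rw [e, mem_bot] at hcT; exact hcT)
    refine h.no_burnside T hT1 (h.sylow_ne_top T hT1) fun u hu => ?_
    have huC : u ∈ C := by
      rw [hCdef, mem_centralizer_singleton_iff]
      calc u * t = u * t * u⁻¹ * u := by group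
        _ = t * u := by rw [hfix u hu]
    suffices ∀ y ∈ (T : Subgroup X), Commute u y from
      mem_centralizer_iff.2 fun y hy => (this y hy).eq.symm
    intro y hy
    -- `s` centralises the Sylow subgroup
    have hsy : Commute s y := by
      obtain ⟨l, hl⟩ : ∃ l : ℤ, k₀ ^ l = y := by have := hTK hy; rwa [← g.gen] at this
      obtain ⟨l₀, hl₀⟩ : ∃ l : ℤ, k₀ ^ l = c := by rwa [← g.gen] at hcK
      have hsy' : s * y * s = y ^ i := by rw [← hl, hi, ← zpow_mul]; ring_nf
      have hci : c ^ (i - 1) = 1 := by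
        rw [zpow_sub, zpow_one, ← hl₀, ← zpow_mul, mul_comm l₀, ← hi l₀, hl₀, hcs, mul_assoc c, ss h g, mul_one,
          mul_inv_cancel]
      have hri : (r : ℤ) ∣ i - 1 := hc ▸ orderOf_dvd_iff_zpow_eq_one.2 hci
      have hyo : (orderOf y : ℤ) ∣ i * i - 1 := (Int.natCast_dvd_natCast.2
        (Subgroup.orderOf_dvd_natCard K (hTK hy))).trans hsq
      obtain ⟨e, he⟩ := T.2 ⟨y, hy⟩
      have hye : orderOf y ∣ r ^ e := orderOf_dvd_of_pow_eq_one (congrArg Subtype.val he)
      have hco : IsCoprime (orderOf y : ℤ) (i + 1) := by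
        refine (IsCoprime.of_isCoprime_of_dvd_left ?_ (Int.natCast_dvd_natCast.2 hye))
        push_cast
        refine IsCoprime.pow_left ((Int.prime_iff_natAbs_prime.2 (by simpa using hr)).coprime_iff_not_dvd.2 fun e => ?_)
        have := Int.dvd_sub e hri
        rw [show i + 1 - (i - 1) = ((2 : ℕ) : ℤ) by ring, Int.natCast_dvd_natCast] at this
        exact hr2 ((Nat.prime_dvd_prime_iff_eq hr Nat.prime_two).1 this)
      have hdiv : (orderOf y : ℤ) ∣ i - 1 := hco.dvd_of_dvd_mul_left (by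
        rw [show (i + 1) * (i - 1) = i * i - 1 by ring]; exact hyo)
      have : y ^ i = y := by
        have := orderOf_dvd_iff_zpow_eq_one.1 hdiv
        rwa [zpow_sub, zpow_one, mul_inv_eq_one] at this
      rw [this] at hsy'
      calc s * y = s * y * (s * s) := by rw [ss h g, mul_one]
        _ = y * s := by rw [← mul_assoc, hsy']
    by_cases huK : u ∈ K
    · exact h.comm huK (hTK hy)
    · rw [show u = u * s⁻¹ * s by group]
      exact Commute.mul_left (h.comm (h.mem_C g.hsC g.hsK huC huK) (hTK hy)) hsy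
  · -- the centraliser is abelian
    push Not at hfix
    obtain ⟨u, hu, hut⟩ := hfix
    set t' := u * t * u⁻¹ with ht'
    have ht'o : orderOf t' = 2 := (MulEquiv.orderOf_eq (MulAut.conj u) t).trans h.ht
    have htC : t ∈ C := h.hle h.htK
    have ht'C : t' ∈ C := hCN u hu t htC
    have ht'c : ∀ y ∈ C, Commute t' y := fun y hy => by
      have h1 : u⁻¹ * y * u⁻¹⁻¹ ∈ C := hCN u⁻¹ (inv_mem hu) y hy
      rw [hCdef, mem_centralizer_singleton_iff, inv_inv] at h1
      show u * t * u⁻¹ * y = y * (u * t * u⁻¹)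
      calc _ = u * (t * (u⁻¹ * y * u)) * u⁻¹ := by group
        _ = u * (u⁻¹ * y * u * t) * u⁻¹ := by rw [h1]
        _ = _ := by group
    have ht'K : t' ∉ K := fun e => by
      rcases h.eq_t e (sq_of_order_two ht'o) with r | r
      · exact ne_one_of_order_two ht'o r
      · exact hut r
    have hCab : ∀ y ∈ C, ∀ z ∈ C, y * z = z * y := by
      intro y hy z hz
      have hdec : ∀ w ∈ C, ∃ k ∈ K, w = k ∨ w = k * t' := fun w hw => by
        by_cases hwK : w ∈ K
        · exact ⟨w, hwK, Or.inl rfl⟩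
        · exact ⟨w * t'⁻¹, h.mem_C ht'C ht'K hw hwK, Or.inr (by group)⟩
      obtain ⟨k, hk, e⟩ := hdec y hy
      obtain ⟨l, hl, e'⟩ := hdec z hz
      have hkl : Commute k l := h.comm hk hl
      have h1 : Commute t' k := ht'c k (h.hle hk)
      have h2 : Commute t' l := ht'c l (h.hle hl)
      rcases e with rfl | rfl <;> rcases e' with rfl | rfl
      · exact hkl.eq
      · exact (hkl.mul_right h1.symm).eq
      · exact (hkl.mul_left h2).eq
      · exact ((hkl.mul_right h1.symm).mul_left (h2.mul_right (Commute.refl t'))).eq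
    have hH : Cfsg.Lib.AbelianCent.Hyp X := by
      refine ⟨fun v hv y hy z hz => ?_, h.sylow_two_not_cyclic, fun P hP => ?_⟩
      · obtain ⟨w, hw⟩ := isConj_iff.1 (all_conj h g hv h.ht)
        have hm : ∀ y ∈ centralizer ({v} : Set X), w * y * w⁻¹ ∈ C := fun y hy => by
          rw [mem_centralizer_singleton_iff] at hy
          rw [hCdef, mem_centralizer_singleton_iff, ← hw]
          calc w * y * w⁻¹ * (w * v * w⁻¹) = w * (y * v) * w⁻¹ := by group
            _ = _ := by rw [hy]; group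
        have := hCab _ (hm y hy) _ (hm z hz)
        calc y * z = w⁻¹ * (w * y * w⁻¹ * (w * z * w⁻¹)) * w := by group
          _ = _ := by rw [this]; group
      · haveI : Fact (Nat.Prime 2) := ⟨Nat.prime_two⟩
        have hne := P.ne_bot_of_dvd_card (h.ht ▸ _root_.orderOf_dvd_natCard t : 2 ∣ Nat.card X)
        rcases h.normal_cases _ hP with e | e
        · exact hne e
        · exact h.sylow_ne_top P hne e
    have hZ : center X = ⊥ := by
      rcases h.normal_cases (center X) inferInstance with e | e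
      · exact e
      · exact absurd (⟨⟨fun a b => mem_center_iff.1 (e.symm ▸ mem_top b : b ∈ center X) a⟩⟩ : IsMulCommutative X) h.nc
    have h1 := Cfsg.Lib.AbelianCent.caseOne_hyp hH
      (fun L _ hL => Cfsg.Lib.AbelianCent.main _ rfl hL) hZ
    have hcC : c ∈ C := h.hle hcK
    have := order_two_of_mul_self (Cfsg.Lib.AbelianCent.elementary hH h1 h.ht c hcC) hc1
    omega

theorem inverted {x : X} (hx : x ∈ K) : s * x * s⁻¹ = x⁻¹ := by
  classical
  obtain ⟨i, hi, hsq⟩ := exists_exp h g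
  have h2 := two_part h g hi hsq
  have hodd : (n' : ℤ) ∣ i + 1 := by
    have hn' : (n' : ℤ) ∣ i * i - 1 :=
      (Int.natCast_dvd_natCast.2 ⟨m, by rw [g.split]; ring⟩ : (n' : ℤ) ∣ (Nat.card K : ℤ)).trans hsq
    have hco : IsCoprime (n' : ℤ) (i - 1) := by
      rw [Int.isCoprime_iff_nat_coprime, Int.natAbs_natCast]
      refine Nat.coprime_of_dvd fun r hr hrn hri => ?_
      have hr2 : r ≠ 2 := fun e => Nat.not_even_iff_odd.2 g.odd (even_iff_two_dvd.2 (e ▸ hrn))
      obtain ⟨l, hl⟩ : r ∣ Nat.card K := hrn.trans ⟨m, by rw [g.split]; ring⟩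
      have hl0 : l ≠ 0 := fun e => by
        rw [e, mul_zero] at hl
        exact absurd hl Nat.card_pos.ne'
      refine no_fixed h g hr hr2 (c := k₀ ^ l) ?_ (g.gen ▸ pow_mem (mem_zpowers _) _) ?_
      · rw [orderOf_pow' _ hl0, g.ord, hl, Nat.gcd_eq_right (dvd_mul_left l r), Nat.mul_div_cancel _ (by omega)]
      · have h3 : (k₀ ^ l) ^ (i - 1) = 1 := by
          rw [← zpow_natCast, ← zpow_mul, ← orderOf_dvd_iff_zpow_eq_one, g.ord, hl]
          obtain ⟨d, hd⟩ := Int.natCast_dvd.2 hri
          exact ⟨d, by push_cast; rw [hd]; ring⟩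
        rw [zpow_sub, zpow_one, mul_inv_eq_one, ← zpow_natCast, ← zpow_mul, mul_comm, ← hi] at h3
        rw [zpow_natCast] at h3
        calc s * k₀ ^ l = s * k₀ ^ l * (s * s) := by rw [ss h g, mul_one]
          _ = k₀ ^ l * s := by rw [← mul_assoc, h3]
    exact hco.dvd_of_dvd_mul_left (by rw [show (i - 1) * (i + 1) = i * i - 1 by ring]; exact hn')
  have hall : (orderOf k₀ : ℤ) ∣ i + 1 := by
    rw [g.ord, g.split, Nat.cast_mul]
    refine IsCoprime.mul_dvd ?_ h2 hodd
    rw [Int.isCoprime_iff_nat_coprime, Int.natAbs_natCast, Int.natAbs_natCast]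
    obtain ⟨j, -, rfl⟩ := g.two
    exact Nat.Coprime.pow_left j (Nat.coprime_two_left.2 g.odd)
  rw [← g.gen] at hx
  obtain ⟨j, rfl⟩ := hx
  show s * k₀ ^ j * s⁻¹ = (k₀ ^ j)⁻¹
  rw [s_inv h g, hi, ← zpow_neg, zpow_eq_zpow_iff_modEq]
  exact Int.modEq_iff_dvd.2 (by rw [show -j - i * j = -((i + 1) * j) by ring, dvd_neg]; exact hall.mul_right j)

theorem data : Cfsg.Lib.BSW.Data t s K := by
  refine ⟨h.ht, g.hs, fun a ha b hb => h.comm ha hb, h.htK, g.hsK, g.hsC, ?_, ?_, fun x hx => inverted h g hx, ?_,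
    fun x y hx hy => all_conj h g hx hy⟩
  · refine le_antisymm (sup_le h.hle (zpowers_le.2 g.hsC)) fun x hx => ?_
    by_cases hxK : x ∈ K
    · exact mem_sup_left hxK
    · rw [show x = x * s⁻¹ * s by group]
      exact mul_mem (mem_sup_left (h.mem_C g.hsC g.hsK hx hxK)) (mem_sup_right (mem_zpowers s))
  · refine le_antisymm (fun x hx => ?_) (zpowers_le.2 (mem_inf.2 ⟨h.htK, mem_centralizer_singleton_iff.2
      (mem_centralizer_singleton_iff.1 g.hsC).symm⟩))
    obtain ⟨hxK, hxs⟩ := mem_inf.1 hx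
    have h1 := inverted h g hxK
    rw [mem_centralizer_singleton_iff] at hxs
    rw [← hxs, mul_inv_cancel_right] at h1
    rcases h.eq_t hxK (mul_eq_one_iff_eq_inv.2 h1) with e | e
    · rw [e]; exact one_mem _
    · rw [e]; exact mem_zpowers _
  · intro u hu
    refine eq_bot_iff.2 fun k hk => ?_
    obtain ⟨hkK, l, hl, hlk⟩ := mem_inf.1 hk
    rw [mem_bot]
    by_contra hk1
    have hl' : u * l * u⁻¹ = k := hlk
    by_cases hkt : k = t
    · subst hkt
      rcases h.eq_t hl (by
        have : u * (l * l) * u⁻¹ = k * k := by rw [← hl']; group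
        rw [sq_of_order_two h.ht, conj_eq_one_iff] at this; exact this) with e | e
      · rw [e, mul_one, mul_inv_cancel] at hl'; exact hk1 hl'.symm
      · rw [e] at hl'
        exact hu (mem_centralizer_singleton_iff.2 (mul_inv_eq_iff_eq_mul.1 hl'))
    have hCk : centralizer ({k} : Set X) ≤ K := fun y hy => by
      have hsup : K.relIndex (centralizer ({k} : Set X)) ≤ 2 := by
        have h1 := (K.subgroupOf (centralizer ({k} : Set X))).card_mul_index
        rw [Nat.card_congr (subgroupOfEquivOfLe (h.le_cent hkK)).toEquiv] at h1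
        refine Nat.le_of_mul_le_mul_left ?_ (Nat.card_pos (α := K))
        show Nat.card K * (K.subgroupOf (centralizer ({k} : Set X))).index ≤ _
        rw [h1, mul_comm]
        exact h.cent k hkK hk1
      by_contra hyK
      have hne : K.relIndex (centralizer ({k} : Set X)) ≠ 0 :=
        Subgroup.index_ne_zero_of_finite (H := K.subgroupOf (centralizer ({k} : Set X)))
      have h2 : K.relIndex (centralizer ({k} : Set X)) = 2 := by
        have : K.relIndex (centralizer ({k} : Set X)) ≠ 1 := fun e => hyK (Subgroup.relIndex_eq_one.1 e hy)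
        omega
      haveI := Subgroup.normal_of_index_eq_two (show (K.subgroupOf (centralizer ({k} : Set X))).index = 2 from h2)
      have hconj : y * t * y⁻¹ ∈ K := by
        have := Subgroup.Normal.conj_mem (inferInstance : (K.subgroupOf (centralizer ({k} : Set X))).Normal)
          ⟨t, h.le_cent hkK h.htK⟩ h.htK ⟨y, hy⟩
        exact this
      have hyt : y * t * y⁻¹ = t := (h.eq_t hconj (by
        calc y * t * y⁻¹ * (y * t * y⁻¹) = y * (t * t) * y⁻¹ := by group
          _ = 1 := by rw [sq_of_order_two h.ht]; group)).resolve_left fun e =>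
        ne_one_of_order_two h.ht (conj_eq_one_iff.1 e)
      have hyC : y ∈ centralizer ({t} : Set X) := mem_centralizer_singleton_iff.2 (mul_inv_eq_iff_eq_mul.1 hyt)
      have h3 := h.mem_C g.hsC g.hsK hyC hyK
      have hsk : Commute s k := by
        rw [show s = (y * s⁻¹)⁻¹ * y by group]
        exact Commute.mul_left (Commute.inv_left (h.comm h3 hkK)) (mem_centralizer_singleton_iff.1 hy)
      have h4 := inverted h g hkK
      rw [hsk.eq, mul_inv_cancel_right] at h4
      rcases h.eq_t hkK (mul_eq_one_iff_eq_inv.2 h4) with e | e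
      · exact hk1 e
      · exact hkt e
    have hmap : K.map (MulAut.conj u).toMonoidHom ≤ centralizer ({k} : Set X) := by
      rintro _ ⟨y, hy, rfl⟩
      rw [mem_centralizer_singleton_iff, ← hl']
      show u * y * u⁻¹ * (u * l * u⁻¹) = u * l * u⁻¹ * (u * y * u⁻¹)
      calc _ = u * (y * l) * u⁻¹ := by group
        _ = _ := by rw [h.comm hy hl]; group
    rcases h.eq_t (hCk (hmap ⟨t, h.htK, rfl⟩)) (by
      show u * t * u⁻¹ * (u * t * u⁻¹) = 1
      calc u * t * u⁻¹ * (u * t * u⁻¹) = u * (t * t) * u⁻¹ := by group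
        _ = 1 := by rw [sq_of_order_two h.ht]; group) with e | e
    · exact ne_one_of_order_two h.ht (conj_eq_one_iff.1 e)
    · exact hu (mem_centralizer_singleton_iff.2 (mul_inv_eq_iff_eq_mul.1 e))


end

/-- The conclusion of the theorem of Brauer, Suzuki and Wall. -/
theorem concl : Cfsg.Lib.BSW.Concl X := by
  obtain ⟨k₀, a, s, m, n', S, g⟩ := h.exists_setup
  obtain ⟨δ, q, r, R⟩ := Cfsg.Lib.BSW.exists_res_of_data (data h g)
  exact Cfsg.Lib.BSW.concl R

end Core

end Cfsg.Lib.PSLOrderSpec
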