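import Cfsg.Agent.PSLOrderSpec.Setup
import Cfsg.Agent.S1230

/-!
Groups with the order and the element orders of `PSL(2, q)`, `q` even.
-/

set_option autoImplicit false
set_option linter.style.haveILetI false

namespace Cfsg.Lib.PSLOrderSpec

open Subgroup

universe u

variable {G : Type u} [Group G] [Finite G] {q : ℕ}

theorem psl_even (f : ℕ) (hq : q = 2 ^ f) (hf : 2 ≤ f) (hcard : Nat.card G = q * ((q - 1) * (q + 1)))
    (hspec : ∀ g : G, orderOf g ∣ 2 ∨ orderOf g ∣ (q - 1) ∨ orderOf g ∣ (q + 1))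
    (hex : ∃ z : G, orderOf z = q + 1) :
    ∃ (F : Type) (_ : Field F) (_ : Fintype F), Fintype.card F = q ∧
      Nonempty (G ≃* Matrix.ProjectiveSpecialLinearGroup (Fin 2) F) := by
  classical
  haveI : Fact (Nat.Prime 2) := ⟨Nat.prime_two⟩
  have hq4 : 4 ≤ q := hq ▸ Nat.pow_le_pow_right (by norm_num : 2 > 0) hf
  have hqe : 2 ∣ q := hq ▸ dvd_pow_self 2 (by omega)
  have c1 : Nat.Coprime 2 (q - 1) := Nat.coprime_two_left.2 (Nat.odd_iff.2 (by omega))
  have c2 : Nat.Coprime 2 (q + 1) := Nat.coprime_two_left.2 (Nat.odd_iff.2 (by omega))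
  have hinv : ∀ t : G, orderOf t = 2 → ∀ c ∈ centralizer ({t} : Set G), orderOf c ∣ 2 := fun t ht c hc =>
    part_of_commute c1 c2 hspec (fun e => by rw [e, orderOf_one] at ht; omega) (ht ▸ dvd_rfl)
      (mem_centralizer_singleton_iff.1 hc).symm
  obtain ⟨T⟩ := (inferInstance : Nonempty (Sylow 2 G))
  have hT : Nat.card (T : Subgroup G) = q := by
    rw [T.card_eq_multiplicity, hcard, Nat.factorization_mul (by omega) (Nat.mul_ne_zero (by omega) (by omega))]
    simp only [Finsupp.add_apply]
    rw [Nat.factorization_eq_zero_of_not_dvd (n := (q - 1) * (q + 1))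
      (Nat.Prime.coprime_iff_not_dvd Nat.prime_two |>.1 (c1.mul_right c2)), hq, Nat.factorization_pow,
      Finsupp.smul_apply, Nat.prime_two.factorization_self]
    simp
  have hnc : ¬ IsCyclic (T : Subgroup G) := by
    intro hc
    obtain ⟨g, hg⟩ := hc.exists_generator
    have h1 : orderOf (g : G) = q := by
      rw [Subgroup.orderOf_coe, orderOf_eq_card_of_forall_mem_zpowers hg, hT]
    rcases hspec (g : G) with h | h | h <;> rw [h1] at h
    · have := Nat.le_of_dvd (by norm_num) h; omega
    · have := Nat.le_of_dvd (by omega) h; omega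
    · have h2 := Nat.dvd_sub h (dvd_refl q)
      rw [Nat.add_sub_cancel_left] at h2
      have := Nat.le_of_dvd (by norm_num) h2
      omega
  have hnn : ¬ (T : Subgroup G).Normal := by
    intro hn
    obtain ⟨z, hz⟩ := hex
    have hf' : Cfsg.Lib.Frobenius.Fpf (zpowers z) (T : Subgroup G) := by
      intro a ha ha1
      refine eq_bot_iff.2 fun v hv => ?_
      obtain ⟨hvT, hva⟩ := mem_inf.1 hv
      rw [mem_bot]
      by_contra hv1
      have h2 : orderOf a ∣ q + 1 := hz ▸ Nat.card_zpowers z ▸ Subgroup.orderOf_dvd_natCard _ ha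
      have h3 : orderOf v ∣ 2 := by
        have hd : orderOf v ∣ q := hT ▸ Subgroup.orderOf_dvd_natCard _ hvT
        rcases hspec v with r | r | r
        · exact r
        · rw [hq] at hd
          rw [Nat.eq_one_of_dvd_coprimes (Nat.Coprime.pow_left f c1) hd r]; exact one_dvd _
        · rw [hq] at hd
          rw [Nat.eq_one_of_dvd_coprimes (Nat.Coprime.pow_left f c2) hd r]; exact one_dvd _
      have h1 : orderOf a ∣ 2 := part_of_commute c1 c2 hspec hv1 h3
        (mem_centralizer_singleton_iff.1 hva)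
      exact ha1 (orderOf_eq_one_iff.1 (Nat.eq_one_of_dvd_coprimes c2 h1 h2))
    have h := hf'.card_dvd (by rw [Subgroup.normalizer_eq_top_iff.2 hn]; exact le_top)
    rw [Nat.card_zpowers, hz, hT] at h
    have := Nat.le_of_dvd (by omega) h
    omega
  obtain ⟨F, i1, i2, hF, hiso⟩ := Cfsg.Agent.S1230.result T hnc hnn fun t ht =>
    ⟨⟨⟨fun a b => by
        have hs : ∀ c : centralizer ({t} : Set G), c⁻¹ = c := fun c => inv_eq_of_mul_eq_one_right
          (Subtype.ext (by
            have := orderOf_dvd_iff_pow_eq_one.1 (hinv t ht _ c.2)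
            rw [pow_two] at this
            simpa using this))
        rw [← hs (a * b), mul_inv_rev, hs, hs]⟩⟩,
     fun c hc => orderOf_dvd_iff_pow_eq_one.1 (hinv t ht c hc)⟩
  exact ⟨F, i1, i2, hF.trans hT, hiso⟩

end Cfsg.Lib.PSLOrderSpec
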