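import Cfsg.Agent.PSLOrderSpec.Setup
import Cfsg.Agent.PSLOrderSpec.Action

/-!
Groups with the order and the element orders of `PSL(2, q)`, `q` odd.
-/

set_option autoImplicit false
set_option linter.style.haveILetI false
set_option linter.unusedSectionVars false

namespace Cfsg.Lib.PSLOrderSpec

open Subgroup Cfsg.Lib.InvolCalc

universe u

variable {G : Type u} [Group G] [Finite G] {p q e b : ℕ}

/-- The centraliser of an element inside a subgroup. -/
def centInf (N : Subgroup G) (k : N) :
    centralizer ({k} : Set N) ≃ (N ⊓ centralizer ({(k : G)} : Set G) : Subgroup G) where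
  toFun z := ⟨((z : N) : G), mem_inf.2 ⟨(z : N).2, mem_centralizer_singleton_iff.2
    (congrArg Subtype.val (mem_centralizer_singleton_iff.1 z.2))⟩⟩
  invFun z := ⟨⟨(z : G), (mem_inf.1 z.2).1⟩, mem_centralizer_singleton_iff.2
    (Subtype.ext (mem_centralizer_singleton_iff.1 (mem_inf.1 z.2).2))⟩
  left_inv _ := rfl
  right_inv _ := rfl

theorem cyclic_index_two (h : Spec G p q e b) {t : G} {K : Subgroup G} (hKcard : Nat.card K = e)
    (hKab : ∀ a ∈ K, ∀ a' ∈ K, a * a' = a' * a)
    {k : G} (hk : k ∈ K) (hk1 : k ≠ 1) (N : Subgroup G) (ht : t ∈ N ⊓ K) :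
    Nat.card (N ⊓ centralizer ({k} : Set G) : Subgroup G) ≤ 2 * Nat.card (N ⊓ K : Subgroup G) := by
  have hle : K ≤ centralizer ({k} : Set G) := fun a ha => mem_centralizer_singleton_iff.2 (hKab a ha k hk)
  have hd := h.card_cent_e hk1 (hKcard ▸ Subgroup.orderOf_dvd_natCard K hk)
  have hrel : K.relIndex (centralizer ({k} : Set G)) ≤ 2 := by
    have h1 := (K.subgroupOf (centralizer ({k} : Set G))).card_mul_index
    rw [Nat.card_congr (subgroupOfEquivOfLe hle).toEquiv, hKcard] at h1
    have h2 := Nat.le_of_dvd (by have := h.e_pos; omega) hd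
    rw [← h1, mul_comm 2] at h2
    exact Nat.le_of_mul_le_mul_left h2 h.e_pos
  have h1 := ((N ⊓ K).subgroupOf (N ⊓ centralizer ({k} : Set G))).card_mul_index
  rw [Nat.card_congr (subgroupOfEquivOfLe (inf_le_inf le_rfl hle)).toEquiv] at h1
  rw [← h1, mul_comm 2]
  refine Nat.mul_le_mul_left _ (le_trans ?_ hrel)
  have : (N ⊓ K).subgroupOf (N ⊓ centralizer ({k} : Set G)) =
      K.subgroupOf (N ⊓ centralizer ({k} : Set G)) := by
    ext z
    simp only [mem_subgroupOf, mem_inf]
    exact ⟨fun hz => hz.2, fun hz => ⟨(mem_inf.1 z.2).1, hz⟩⟩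
  rw [this]
  exact Subgroup.relIndex_le_of_le_right inf_le_right (Subgroup.index_ne_zero_of_finite (H := K.subgroupOf _))

theorem psl_odd (h : Spec G p q e b) :
    ∃ (F : Type) (_ : Field F) (_ : Fintype F), Fintype.card F = q ∧
      Nonempty (G ≃* Matrix.ProjectiveSpecialLinearGroup (Fin 2) F) := by
  classical
  haveI : Fact (Nat.Prime 2) := ⟨Nat.prime_two⟩
  obtain ⟨t, x, hx, ht, htK, hKC, hC⟩ := h.exists_t
  set K := zpowers x with hKdef
  have hKcard : Nat.card K = e := by rw [hKdef, Nat.card_zpowers, hx]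
  haveI hKcyc : IsCyclic K := Subgroup.isCyclic_zpowers x
  have hKab : ∀ a ∈ K, ∀ a' ∈ K, a * a' = a' * a := by
    rintro _ ⟨i, rfl⟩ _ ⟨j, rfl⟩; exact (Commute.zpow_zpow (Commute.refl x) i j).eq
  obtain ⟨N, hNn, hNs, hNnc⟩ := h.exists_simple
  haveI := hNn
  haveI := hNs
  set C := centralizer ({t} : Set G) with hCdef
  have hCindex : C.index = q * b := by
    have h1 := C.card_mul_index
    rw [hC, h.card, show q * (2 * e) * b = 2 * e * (q * b) by ring] at h1
    exact Nat.eq_of_mul_eq_mul_left (by have := h.e_pos; omega) h1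
  have hcop : ∀ r : ℕ, r.Prime → r ∣ e → ¬ r ∣ C.index := fun r hr hre hri => by
    rw [hCindex] at hri
    rcases (Nat.Prime.dvd_mul hr).1 hri with d | d
    · exact hr.ne_one (Nat.eq_one_of_dvd_coprimes h.qe d hre)
    · exact hr.ne_one (Nat.eq_one_of_dvd_coprimes h.heb hre d)
  -- a Sylow subgroup of `N` inside the centraliser of `t`
  obtain ⟨T₀⟩ := (inferInstance : Nonempty (Sylow 2 C))
  let S : Sylow 2 G := Sylow.ofCard ((T₀ : Subgroup C).map C.subtype) (by
    rw [Subgroup.card_map_of_injective C.subtype_injective, T₀.card_eq_multiplicity, ← C.card_mul_index,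
      Nat.factorization_mul Nat.card_pos.ne' Subgroup.index_ne_zero_of_finite, Finsupp.add_apply,
      Nat.factorization_eq_zero_of_not_dvd (hcop 2 Nat.prime_two h.he), add_zero])
  have hSC : (S : Subgroup G) ≤ C := by simp only [S, Sylow.coe_ofCard]; exact map_subtype_le _
  set T := (S : Subgroup G) ⊓ N with hT
  have hTN : T ≤ N := inf_le_right
  have hTC : T ≤ C := inf_le_left.trans hSC
  haveI hTp : IsPGroup 2 T := S.2.to_le inf_le_left
  obtain ⟨P, hPT⟩ := (show IsPGroup 2 (T.subgroupOf N) from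
    hTp.of_equiv (subgroupOfEquivOfLe hTN).symm).exists_le_sylow
  have hPmap : (P : Subgroup N).map N.subtype = T := by
    symm
    refine Subgroup.eq_of_le_of_card_ge (fun z hz => ⟨⟨z, hTN hz⟩, hPT hz, rfl⟩) ?_
    obtain ⟨S₁, hS₁⟩ := (P.2.map N.subtype).exists_le_sylow
    obtain ⟨g, hg⟩ := MulAction.exists_smul_eq G S₁ S
    refine le_of_eq_of_le (Subgroup.card_map_of_injective (MulAut.conj g).injective).symm
      (Subgroup.card_le_of_le (H := ((P : Subgroup N).map N.subtype).map (MulAut.conj g).toMonoidHom) ?_)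
    rintro _ ⟨_, ⟨z, hz, rfl⟩, rfl⟩
    refine mem_inf.2 ⟨?_, hNn.conj_mem _ z.2 g⟩
    rw [← hg, Sylow.coe_subgroup_smul]
    exact ⟨_, hS₁ ⟨z, hz, rfl⟩, rfl⟩
  have hTnc : ¬ IsCyclic T := by
    intro hc
    haveI : IsCyclic (P : Subgroup N) := by
      let f : (P : Subgroup N) →* T :=
        { toFun := fun z => ⟨((z : N) : G), hPmap ▸ (⟨z, z.2, rfl⟩ : ((z : N) : G) ∈ (P : Subgroup N).map N.subtype)⟩
          map_one' := rfl
          map_mul' := fun _ _ => rfl }
      exact isCyclic_of_injective f fun a b e =>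
        Subtype.ext (Subtype.ext (congrArg (fun w : T => (w : G)) e :))
    have hev : 2 ∣ Nat.card N := by
      by_contra hodd
      haveI : Group.IsSolvable N := Cfsg.Agent.PF.isSolvable_of_odd N
        (Nat.not_even_iff_odd.1 fun e => hodd e.two_dvd)
      exact hNnc ⟨⟨fun a b => IsSimpleGroup.comm_iff_isSolvable.2 inferInstance a b⟩⟩
    have hPne := P.ne_bot_of_dvd_card hev
    have hN' := IsCyclic.normalizer_le_centralizer (P := P)
      (le_antisymm (Nat.minFac_le_of_dvd le_rfl hev)
        (Nat.minFac_prime (fun e => by rw [e] at hev; omega)).two_le) inferInstance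
    have hcompl := MonoidHom.ker_transferSylow_isComplement' P hN'
    rcases hNs.eq_bot_or_eq_top_of_normal _ (MonoidHom.normal_ker (MonoidHom.transferSylow P hN')) with e | e <;>
      rw [e] at hcompl
    · rw [Subgroup.isComplement'_bot_left] at hcompl
      refine hNnc ?_
      haveI : IsCyclic N := isCyclic_of_surjective ((P : Subgroup N).subtype)
        (fun z => ⟨⟨z, hcompl ▸ mem_top z⟩, rfl⟩)
      obtain ⟨g, hg⟩ := IsCyclic.exists_generator (α := N)
      exact ⟨⟨fun a b => by
        obtain ⟨i, rfl⟩ := hg a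
        obtain ⟨j, rfl⟩ := hg b
        exact (Commute.zpow_zpow (Commute.refl g) i j).eq⟩⟩
    · rw [Subgroup.isComplement'_top_left] at hcompl
      exact hPne hcompl
  -- `t` lies in `N`
  have htN : t ∈ N := by
    have hTK : T ⊓ K ≠ ⊥ := by
      intro hbot
      have hrel : K.relIndex C = 2 := by
        have h1 := (K.subgroupOf C).card_mul_index
        rw [Nat.card_congr (subgroupOfEquivOfLe hKC).toEquiv, hKcard, hC, mul_comm 2] at h1
        exact Nat.eq_of_mul_eq_mul_left h.e_pos h1
      refine hTnc ?_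
      have hsmall : ∀ a b : T, a ≠ 1 → b ≠ 1 → a = b := by
        intro a b ha hb
        by_contra hne
        have h2 : ∀ z : T, z ≠ 1 → (z : G) ∉ K := fun z hz hzK => hz (by
          have : (z : G) ∈ T ⊓ K := mem_inf.2 ⟨z.2, hzK⟩
          rw [hbot, mem_bot] at this
          exact Subtype.ext this)
        refine hne (inv_inv a ▸ ?_)
        have h3 : (a : G) * (b : G)⁻¹ ∈ K := by
          have := (Subgroup.mul_mem_iff_of_index_two (show (K.subgroupOf C).index = 2 from hrel)
            (a := ⟨a, hTC a.2⟩) (b := ⟨(b : G)⁻¹, inv_mem (hTC b.2)⟩)).2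
          simp only [mem_subgroupOf] at this
          exact this ⟨fun e => absurd e (h2 a ha), fun e => absurd (inv_mem_iff.1 e) (h2 b hb)⟩
        by_contra hab
        exact h2 (a * b⁻¹) (fun e => hab (by rw [inv_inv]; exact mul_inv_eq_one.1 e)) h3
      by_cases htriv : ∃ a : T, a ≠ 1
      · obtain ⟨a, ha⟩ := htriv
        refine ⟨⟨a, fun z => ?_⟩⟩
        by_cases hz : z = 1
        · exact ⟨0, by simp [hz]⟩
        · exact ⟨1, by simp [hsmall z a hz ha]⟩
      · push Not at htriv
        haveI : Subsingleton T := ⟨fun a b => (htriv a).trans (htriv b).symm⟩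
        infer_instance
    obtain ⟨⟨y, hy⟩, hyo⟩ := exists_prime_orderOf_dvd_card' (G := (T ⊓ K : Subgroup G)) 2 (by
      haveI : Nontrivial (T ⊓ K : Subgroup G) := (nontrivial_iff_ne_bot _).2 hTK
      obtain ⟨n, hn, hc⟩ := (hTp.to_le inf_le_left).nontrivial_iff_card.mp
        (inferInstance : Nontrivial (T ⊓ K : Subgroup G))
      exact hc ▸ dvd_pow_self 2 (by omega))
    rw [Subgroup.orderOf_mk] at hyo
    obtain ⟨hyT, hyK⟩ := mem_inf.1 hy
    have hz : zpowers y = zpowers t :=
      Cfsg.Lib.SolvStruct.CyclicProduct.eq_of_card_eq_of_isCyclic (zpowers_le.2 hyK) (zpowers_le.2 htK)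
        (by rw [Nat.card_zpowers, Nat.card_zpowers, hyo, ht])
    have : t ∈ zpowers y := hz ▸ mem_zpowers t
    exact zpowers_le.2 (hTN hyT) this
  have hNK_ab : ∀ a ∈ N ⊓ K, a ∈ K := fun a ha => (mem_inf.1 ha).2
  -- the core hypothesis
  have hKN : Nat.card (K.subgroupOf N) = Nat.card (N ⊓ K : Subgroup G) :=
    Nat.card_congr
      { toFun := fun z => ⟨((z : N) : G), mem_inf.2 ⟨(z : N).2, z.2⟩⟩
        invFun := fun z => ⟨⟨(z : G), (mem_inf.1 z.2).1⟩, (mem_inf.1 z.2).2⟩
        left_inv := fun _ => rfl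
        right_inv := fun _ => rfl }
  set tN : N := ⟨t, htN⟩ with htNdef
  have hCN : Nat.card (centralizer ({tN} : Set N)) = 2 * Nat.card (K.subgroupOf N) := by
    rw [hKN, Nat.card_congr (centInf N tN)]
    refine le_antisymm (cyclic_index_two h hKcard hKab htK (ne_one_of_order_two ht) N (mem_inf.2 ⟨htN, htK⟩)) ?_
    have hle : N ⊓ K ≤ N ⊓ centralizer ({((tN : N) : G)} : Set G) := inf_le_inf le_rfl hKC
    have h1 := ((N ⊓ K).subgroupOf (N ⊓ centralizer ({((tN : N) : G)} : Set G))).card_mul_index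
    rw [Nat.card_congr (subgroupOfEquivOfLe hle).toEquiv] at h1
    rw [← h1, mul_comm 2]
    refine Nat.mul_le_mul_left _ ?_
    have h0 : ((N ⊓ K).subgroupOf (N ⊓ centralizer ({((tN : N) : G)} : Set G))).index ≠ 0 :=
      Subgroup.index_ne_zero_of_finite
    have h2 : ((N ⊓ K).subgroupOf (N ⊓ centralizer ({((tN : N) : G)} : Set G))).index ≠ 1 := by
      intro e1
      rw [Subgroup.index_eq_one, Subgroup.subgroupOf_eq_top] at e1
      refine hTnc ?_
      have hTK : T ≤ K := fun z hz => (mem_inf.1 (e1 (mem_inf.2 ⟨hTN hz, hTC hz⟩))).2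
      exact isCyclic_of_injective (Subgroup.inclusion hTK) (Subgroup.inclusion_injective _)
    omega
  have hcore : Core tN (K.subgroupOf N) := by
    refine ⟨hNs, hNnc, by rw [htNdef, Subgroup.orderOf_mk, ht], ?_, htK, ?_, hCN, ?_, ?_⟩
    · exact isCyclic_of_injective
        ((N.subtype.comp (K.subgroupOf N).subtype).codRestrict K fun z => z.2)
        fun a b e => Subtype.ext (Subtype.ext (congrArg Subtype.val e :))
    · intro z hz
      exact mem_centralizer_singleton_iff.2 (Subtype.ext (hKab _ hz _ htK))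
    · intro r hr hrK hri
      refine hcop r hr (hrK.trans ?_) ?_
      · rw [hKN, ← hKcard]; exact Subgroup.card_dvd_of_le inf_le_right
      · refine hri.trans ?_
        have e1 : centralizer ({tN} : Set N) = C.subgroupOf N := by
          ext z
          simp only [mem_subgroupOf, hCdef, mem_centralizer_singleton_iff]
          exact ⟨fun e => congrArg Subtype.val e, fun e => Subtype.ext e⟩
        rw [e1]
        obtain ⟨c, hc⟩ := Subgroup.relIndex_dvd_index_of_normal (H := N) (K := C)
        refine ⟨c, ?_⟩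
        have h1 := Subgroup.relIndex_mul_index (inf_le_left : N ⊓ C ≤ N)
        have h2 := Subgroup.relIndex_mul_index (inf_le_right : N ⊓ C ≤ C)
        rw [Subgroup.inf_relIndex_left] at h1
        rw [Subgroup.inf_relIndex_right, ← h1, hc] at h2
        show C.index = C.relIndex N * c
        refine Nat.eq_of_mul_eq_mul_left (Nat.pos_of_ne_zero (Subgroup.index_ne_zero_of_finite (H := N.subgroupOf C))) ?_
        simp only [Subgroup.relIndex] at h2 ⊢
        exact h2.trans (by ring)
    · intro k hk hk1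
      rw [hKN, Nat.card_congr (centInf N k)]
      exact cyclic_index_two h hKcard hKab hk (fun e => hk1 (Subtype.ext e)) N (mem_inf.2 ⟨htN, htK⟩)
  obtain ⟨Q, D, hcard, hQC, -, hD, hQD, hNQ, hX⟩ := hcore.concl
  -- the group is the product of `N` and `C`
  obtain ⟨kp, a', s', m', n', S', g'⟩ := hcore.exists_setup
  have hfrat : N ⊔ C = ⊤ := by
    refine eq_top_iff.2 fun z _ => ?_
    have ho : orderOf (⟨z⁻¹ * t * z, by simpa using hNn.conj_mem t htN z⁻¹⟩ : N) = 2 := by
      rw [Subgroup.orderOf_mk]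
      rw [show z⁻¹ * t * z = MulAut.conj z⁻¹ t by simp, MulEquiv.orderOf_eq, ht]
    obtain ⟨w, hw⟩ := isConj_iff.1 (Core.all_conj hcore g' ho hcore.ht)
    have hw' : (w : G) * (z⁻¹ * t * z) * (w : G)⁻¹ = t := congrArg Subtype.val hw
    have hzC : (w : G) * z⁻¹ ∈ C := mem_centralizer_singleton_iff.2 (by
      calc (w : G) * z⁻¹ * t = (w : G) * (z⁻¹ * t * z) * (w : G)⁻¹ * ((w : G) * z⁻¹) := by group
        _ = _ := by rw [hw'])
    rw [show z = ((w : G) * z⁻¹)⁻¹ * w by group]
    exact mul_mem (mem_sup_right (inv_mem hzC)) (mem_sup_left w.2)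
  have hidx : N.index ∣ 2 * e := by
    rw [← Subgroup.relIndex_top_right, ← hfrat, Subgroup.relIndex_sup_left]
    exact (Subgroup.relIndex_dvd_card N C).trans hC.dvd
  have hqN : q * b ∣ Nat.card N := by
    have h1 := N.card_mul_index
    refine Nat.Coprime.dvd_of_dvd_mul_right (k := q * b) (n := N.index) ?_ ?_
    · refine Nat.Coprime.of_dvd_right hidx (Nat.Coprime.mul_left ?_ ?_)
      · exact Nat.Coprime.mul_right (Nat.coprime_two_right.2 (Nat.not_even_iff_odd.1 fun e => h.q_odd e.two_dvd)) h.qe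
      · exact Nat.Coprime.mul_right (Nat.coprime_two_right.2 (Nat.not_even_iff_odd.1 fun e => h.b_odd e.two_dvd)) h.heb.symm
    · rw [h1, h.card]; exact ⟨2 * e, by ring⟩
  set q' := Nat.card Q with hq'
  have hD1 : D ≠ ⊥ := by
    intro e1
    rw [e1, Subgroup.card_bot] at hD
    rw [← hD] at hcard
    norm_num at hcard
    have h1 : q ∣ 12 := by
      have := (dvd_mul_right q b).trans hqN
      rwa [show Nat.card N = 12 by omega] at this
    have h2 := Nat.le_of_dvd (by norm_num) h1
    have h3 := h.q5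
    have h4 := h.q_odd
    interval_cases q <;> omega
  have hQ3 : 5 ≤ q' := by
    have : 1 < Nat.card D := Finite.one_lt_card_iff_nontrivial.2 ((nontrivial_iff_ne_bot _).2 hD1)
    omega
  -- the order of the elements of `Q`
  obtain ⟨r, hr, hrq⟩ := Nat.exists_prime_and_dvd (n := q') (by omega)
  haveI := Fact.mk hr
  obtain ⟨⟨u, huQ⟩, hu⟩ := exists_prime_orderOf_dvd_card' (G := Q) r hrq
  rw [Subgroup.orderOf_mk] at hu
  have hu1 : u ≠ 1 := fun e1 => hr.ne_one (by rw [← hu, e1, orderOf_one])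
  have huG : orderOf (u : G) = r := by rw [Subgroup.orderOf_coe, hu]
  have hu1' : (u : G) ≠ 1 := fun e1 => hu1 (Subtype.ext e1)
  have hQab : ∀ v ∈ Q, Commute u v := fun v hv => by
    have := (SetLike.ext_iff.1 (hQC u huQ hu1) v).2 hv
    exact (mem_centralizer_singleton_iff.1 this).symm
  rcases h.spec (u : G) with hd | hd | hd
  swap
  · -- `r` divides `e`
    exfalso
    rw [huG] at hd
    have hr2 : r ≠ 2 := fun e1 => by subst e1; omega
    obtain ⟨R, hR⟩ := (IsPGroup.of_card (n := 1) (by rw [Nat.card_zpowers, huG, pow_one] :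
      Nat.card (zpowers (u : G)) = r ^ 1)).exists_le_sylow
    obtain ⟨c, hc⟩ : ∃ c, c ∈ K ∧ orderOf c = r := by
      obtain ⟨⟨c, hc⟩, hco⟩ := exists_prime_orderOf_dvd_card' (G := K) r (hKcard.symm ▸ hd)
      exact ⟨c, hc, by rwa [Subgroup.orderOf_mk] at hco⟩
    obtain ⟨R', hR'⟩ := (IsPGroup.of_card (n := 1) (by rw [Nat.card_zpowers, hc.2, pow_one] :
      Nat.card (zpowers c) = r ^ 1)).exists_le_sylow
    obtain ⟨w, hw⟩ := MulAction.exists_smul_eq G R' R
    haveI := h.cyclic_of_dvd_e hr2 hd R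
    have hcR : w * c * w⁻¹ ∈ (R : Subgroup G) := by
      rw [← hw, Sylow.coe_subgroup_smul]; exact ⟨c, hR' (mem_zpowers c), rfl⟩
    have heq : zpowers (w * c * w⁻¹) = zpowers (u : G) :=
      Cfsg.Lib.SolvStruct.CyclicProduct.eq_of_card_eq_of_isCyclic (zpowers_le.2 hcR) hR (by
        rw [Nat.card_zpowers, Nat.card_zpowers, huG]
        exact (MulEquiv.orderOf_eq (MulAut.conj w) c).trans hc.2)
    obtain ⟨l, hl⟩ := (heq ▸ mem_zpowers (u : G) : (u : G) ∈ zpowers (w * c * w⁻¹))
    change (w * c * w⁻¹) ^ l = u at hl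
    have hcomm : Commute (w * t * w⁻¹) (u : G) := by
      rw [← hl]
      refine Commute.zpow_right ?_ l
      show w * t * w⁻¹ * (w * c * w⁻¹) = w * c * w⁻¹ * (w * t * w⁻¹)
      calc _ = w * (t * c) * w⁻¹ := by group
        _ = w * (c * t) * w⁻¹ := by rw [hKab t htK c hc.1]
        _ = _ := by group
    have hm : (⟨w * t * w⁻¹, hNn.conj_mem t htN w⟩ : N) ∈ centralizer ({u} : Set N) :=
      mem_centralizer_singleton_iff.2 (Subtype.ext hcomm.eq)
    rw [hQC u huQ hu1] at hm
    have h2 : 2 ∣ q' := by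
      have := Subgroup.orderOf_dvd_natCard Q hm
      rwa [Subgroup.orderOf_mk, show w * t * w⁻¹ = MulAut.conj w t by simp, MulEquiv.orderOf_eq, ht] at this
    omega
  · -- `r = p`
    rw [huG, Nat.prime_dvd_prime_iff_eq hr h.hp] at hd
    subst hd
    obtain ⟨f, hf0, hf⟩ := h.hq
    have hQG : ∀ v : N, v ∈ Q → orderOf v ∣ r := fun v hv => by
      rw [← Subgroup.orderOf_coe]
      exact h.cent_p hu1' huG.dvd (mem_centralizer_singleton_iff.2 ((hQab v hv).map N.subtype).eq.symm)
    have hQp : IsPGroup r Q := fun v => ⟨1, by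
      rw [pow_one, ← orderOf_dvd_iff_pow_eq_one, ← Subgroup.orderOf_coe]; exact hQG v v.2⟩
    obtain ⟨P', hP'⟩ := hQp.exists_le_sylow
    haveI : Nontrivial (P' : Subgroup N) := ⟨⟨⟨u, hP' huQ⟩, 1, fun e1 => hu1 (congrArg Subtype.val e1)⟩⟩
    haveI := P'.2.center_nontrivial
    obtain ⟨⟨⟨z, hzP⟩, hzc⟩, hz1⟩ := exists_ne (1 : center (P' : Subgroup N))
    have hz1' : z ≠ 1 := fun e1 => hz1 (Subtype.ext (Subtype.ext e1))
    have hzu : z * u = u * z := (congrArg Subtype.val (mem_center_iff.1 hzc ⟨u, hP' huQ⟩)).symm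
    have hzQ : z ∈ Q := (SetLike.ext_iff.1 (hQC u huQ hu1) z).1 (mem_centralizer_singleton_iff.2 hzu)
    have hPQ : (P' : Subgroup N) ≤ Q := fun v hv => (SetLike.ext_iff.1 (hQC z hzQ hz1') v).1
      (mem_centralizer_singleton_iff.2 (congrArg Subtype.val (mem_center_iff.1 hzc ⟨v, hv⟩)))
    have hQq : q' = q := by
      rw [hq', show Q = (P' : Subgroup N) from le_antisymm hP' hPQ, P'.card_eq_multiplicity]
      have h1 : (Nat.card N).factorization r = f := by
        have h2 := Nat.factorization_le_iff_dvd (Nat.card_pos (α := N)).ne' (Nat.card_pos (α := G)).ne' |>.2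
          (card_subgroup_dvd_card N) r
        have h3 : (Nat.card G).factorization r = f := by
          rw [h.card, hf, Nat.factorization_mul (Nat.mul_ne_zero (pow_ne_zero _ hr.ne_zero)
              (by have := h.e_pos; omega)) (by have := h.hb; omega),
            Nat.factorization_mul (pow_ne_zero _ hr.ne_zero) (by have := h.e_pos; omega),
            Nat.factorization_mul two_ne_zero h.e_pos.ne', Nat.factorization_pow]
          simp only [Finsupp.add_apply, Finsupp.smul_apply, smul_eq_mul, hr.factorization_self,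
            Nat.factorization_eq_zero_of_not_dvd (hr.coprime_iff_not_dvd.1 h.hpe),
            Nat.factorization_eq_zero_of_not_dvd (hr.coprime_iff_not_dvd.1 h.hpb),
            Nat.factorization_eq_zero_of_not_dvd (n := 2)
              (fun d => h.hp2 ((Nat.prime_dvd_prime_iff_eq hr Nat.prime_two).1 d))]
          simp
        have h4 := (hr.pow_dvd_iff_le_factorization (Nat.card_pos (α := N)).ne').1
          (hf ▸ (dvd_mul_right q b).trans hqN)
        omega
      rw [h1, hf]
    have hNtop : N = ⊤ := by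
      refine Subgroup.eq_top_of_card_eq N (Nat.eq_of_mul_eq_mul_left two_pos ?_)
      rw [hcard, hQq, h.card]
      have := h.hsum; have := h.hdiff; have hq5 := h.q5
      obtain ⟨l, hl⟩ : ∃ l, q = l + 1 := ⟨q - 1, by omega⟩
      have hne : e ≠ b := fun e1 => h.b_odd (e1 ▸ h.he)
      rcases Nat.lt_or_gt_of_ne hne with hlt | hlt
      · obtain rfl : b = e + 1 := by omega
        rw [show q - 1 = 2 * e by omega, show q + 1 = 2 * (e + 1) by omega]; ring
      · obtain rfl : e = b + 1 := by omega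
        rw [show q - 1 = 2 * b by omega, show q + 1 = 2 * (b + 1) by omega]; ring
    obtain ⟨F, i1, i2, hFc, ⟨ψ⟩⟩ := psl_of_concl Q D hcard hQC hD hD1 hQD hNQ hX
    exact ⟨F, i1, i2, by rw [hFc]; exact hQq, ⟨((MulEquiv.subgroupCongr hNtop).trans topEquiv).symm.trans ψ⟩⟩
  · -- `r` divides `b`
    exfalso
    rw [huG] at hd
    have hQb : q' ∣ b := by
      refine (Subgroup.card_dvd_of_injective ((N.subtype.comp Q.subtype).codRestrict
        (centralizer ({(u : G)} : Set G)) fun v => mem_centralizer_singleton_iff.2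
          ((hQab v v.2).map N.subtype).eq.symm) fun a a' e1 => Subtype.ext (Subtype.ext (congrArg Subtype.val e1 :))).trans
        (h.card_cent_b hu1' (huG ▸ hd))
    obtain ⟨f, hf0, hf⟩ := h.hq
    have hqd : q ∣ (q' + 1) * (q' - 1) := by
      refine Nat.Coprime.dvd_of_dvd_mul_left (Nat.Coprime.of_dvd_right hQb h.qb) ?_
      rw [← mul_assoc, ← hcard]
      exact (dvd_mul_right q b).trans (hqN.trans (dvd_mul_left _ 2))
    have hle : q ≤ q' + 1 := by
      rw [hf] at hqd ⊢
      by_cases hd1 : p ∣ q' + 1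
      · refine Nat.le_of_dvd (by omega) ((Nat.Coprime.pow_left f ?_).dvd_of_dvd_mul_right hqd)
        refine h.hp.coprime_iff_not_dvd.2 fun hd2 => ?_
        have := Nat.dvd_sub hd1 hd2
        rw [show q' + 1 - (q' - 1) = 2 by omega] at this
        exact h.hp2 ((Nat.prime_dvd_prime_iff_eq h.hp Nat.prime_two).1 this)
      · have := Nat.le_of_dvd (by omega)
          ((Nat.Coprime.pow_left f (h.hp.coprime_iff_not_dvd.2 hd1)).dvd_of_dvd_mul_left hqd)
        omega
    have := Nat.le_of_dvd (by have := h.hb; omega) hQb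
    have := h.hsum; have := h.hdiff; have := h.q5
    have := h.b_odd; have := h.he
    omega

end Cfsg.Lib.PSLOrderSpec
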