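import Cfsg.Agent.PSLOrderSpec.Core
import Cfsg.Agent.Coprime.Hall
import Cfsg.Agent.Frobenius.FpfGroups
import Cfsg.Agent.S0721
import Cfsg.Agent.OddChar.PF.OddOrder

/-!
Groups with the order and the element orders of `PSL(2, q)`, `q` odd: elementary consequences and the
simple normal subgroup.
-/

set_option autoImplicit false
set_option linter.style.haveILetI false
set_option linter.unusedSectionVars false

namespace Cfsg.Lib.PSLOrderSpec

open Subgroup Cfsg.Lib.InvolCalc

universe u

/-- The numerical and spectral data. -/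
structure Spec (G : Type u) [Group G] (p q e b : ℕ) : Prop where
  hp : p.Prime
  hp2 : p ≠ 2
  hq : ∃ f, f ≠ 0 ∧ q = p ^ f
  q5 : 5 ≤ q
  he : 2 ∣ e
  hb : 1 < b
  hsum : e + b = q
  hdiff : e ≤ b + 1 ∧ b ≤ e + 1
  heb : e.Coprime b
  hpe : p.Coprime e
  hpb : p.Coprime b
  card : Nat.card G = q * (2 * e) * b
  spec : ∀ g : G, orderOf g ∣ p ∨ orderOf g ∣ e ∨ orderOf g ∣ b
  exE : ∃ x : G, orderOf x = e
  exB : ∃ z : G, orderOf z = b

/-- A commuting element has an order in the same part. -/
theorem part_of_commute {G : Type u} [Group G] [Finite G] {A B C : ℕ} (hAB : A.Coprime B) (hAC : A.Coprime C)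
    (hspec : ∀ g : G, orderOf g ∣ A ∨ orderOf g ∣ B ∨ orderOf g ∣ C) {a c : G} (ha1 : a ≠ 1)
    (ha : orderOf a ∣ A) (hc : Commute a c) : orderOf c ∣ A := by
  by_contra hcA
  have hcB : (orderOf a).Coprime (orderOf c) := by
    rcases hspec c with h | h | h
    · exact absurd h hcA
    · exact Nat.Coprime.of_dvd ha h hAB
    · exact Nat.Coprime.of_dvd ha h hAC
  have hac := hc.orderOf_mul_eq_mul_orderOf_of_coprime hcB
  have ha0 : orderOf a ≠ 1 := fun e => ha1 (orderOf_eq_one_iff.1 e)
  rcases hspec (a * c) with h | h | h <;> rw [hac] at h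
  · exact hcA ((dvd_mul_left _ _).trans h)
  · exact ha0 (Nat.eq_one_of_dvd_coprimes hAB ha ((dvd_mul_right _ _).trans h))
  · exact ha0 (Nat.eq_one_of_dvd_coprimes hAC ha ((dvd_mul_right _ _).trans h))

/-- A group all of whose element orders divide `N` has order prime to every number prime to `N`. -/
theorem coprime_of_orders {H : Type u} [Group H] [Finite H] {N M : ℕ} (h : ∀ x : H, orderOf x ∣ N)
    (hc : N.Coprime M) : (Nat.card H).Coprime M := by
  refine Nat.coprime_of_dvd fun r hr hrH hrM => ?_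
  haveI := Fact.mk hr
  obtain ⟨x, hx⟩ := exists_prime_orderOf_dvd_card' r hrH
  exact hr.ne_one (Nat.eq_one_of_dvd_coprimes hc (hx ▸ h x) hrM)

variable {G : Type u} [Group G] [Finite G] {p q e b : ℕ}

namespace Spec

variable (h : Spec G p q e b)
include h

theorem e_pos : 0 < e := by
  rcases Nat.eq_zero_or_pos e with r | r
  · have := h.hsum; have := h.hdiff; have := h.q5; omega
  · exact r

theorem qe : q.Coprime e := by
  obtain ⟨f, -, rfl⟩ := h.hq
  exact Nat.Coprime.pow_left f h.hpe

theorem qb : q.Coprime b := by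
  obtain ⟨f, -, rfl⟩ := h.hq
  exact Nat.Coprime.pow_left f h.hpb

theorem b_odd : ¬ 2 ∣ b := fun d =>
  absurd (Nat.eq_one_of_dvd_coprimes h.heb h.he d) (by norm_num)

theorem q_odd : ¬ 2 ∣ q := fun d =>
  absurd (Nat.eq_one_of_dvd_coprimes h.qe d h.he) (by norm_num)

theorem spec' (g : G) : orderOf g ∣ e ∨ orderOf g ∣ p ∨ orderOf g ∣ b := by
  rcases h.spec g with r | r | r <;> tauto

theorem spec'' (g : G) : orderOf g ∣ b ∨ orderOf g ∣ p ∨ orderOf g ∣ e := by
  rcases h.spec g with r | r | r <;> tauto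

theorem cent_e {a : G} (ha1 : a ≠ 1) (ha : orderOf a ∣ e) {c : G} (hc : c ∈ centralizer ({a} : Set G)) :
    orderOf c ∣ e :=
  part_of_commute h.hpe.symm h.heb h.spec' ha1 ha (mem_centralizer_singleton_iff.1 hc).symm

theorem cent_b {a : G} (ha1 : a ≠ 1) (ha : orderOf a ∣ b) {c : G} (hc : c ∈ centralizer ({a} : Set G)) :
    orderOf c ∣ b :=
  part_of_commute h.hpb.symm h.heb.symm h.spec'' ha1 ha (mem_centralizer_singleton_iff.1 hc).symm

theorem cent_p {a : G} (ha1 : a ≠ 1) (ha : orderOf a ∣ p) {c : G} (hc : c ∈ centralizer ({a} : Set G)) :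
    orderOf c ∣ p :=
  part_of_commute h.hpe h.hpb h.spec ha1 ha (mem_centralizer_singleton_iff.1 hc).symm

theorem card_cent_e {a : G} (ha1 : a ≠ 1) (ha : orderOf a ∣ e) :
    Nat.card (centralizer ({a} : Set G)) ∣ 2 * e := by
  have hco := coprime_of_orders (H := centralizer ({a} : Set G)) (N := e) (M := q * b)
    (fun x => by rw [← Subgroup.orderOf_coe]; exact h.cent_e ha1 ha x.2) (Nat.Coprime.mul_right h.qe.symm h.heb)
  refine hco.dvd_of_dvd_mul_right ?_
  have := card_subgroup_dvd_card (centralizer ({a} : Set G))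
  rwa [h.card, show q * (2 * e) * b = 2 * e * (q * b) by ring] at this

theorem card_cent_b {a : G} (ha1 : a ≠ 1) (ha : orderOf a ∣ b) :
    Nat.card (centralizer ({a} : Set G)) ∣ b := by
  have hco := coprime_of_orders (H := centralizer ({a} : Set G)) (N := b) (M := q * (2 * e))
    (fun x => by rw [← Subgroup.orderOf_coe]; exact h.cent_b ha1 ha x.2)
    (Nat.Coprime.mul_right h.qb.symm (Nat.Coprime.mul_right (Nat.coprime_two_right.2
      (Nat.not_even_iff_odd.1 fun e => h.b_odd e.two_dvd)) h.heb.symm))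
  refine hco.dvd_of_dvd_mul_left ?_
  have := card_subgroup_dvd_card (centralizer ({a} : Set G))
  rwa [h.card] at this

theorem card_cent_p {a : G} (ha1 : a ≠ 1) (ha : orderOf a ∣ p) :
    Nat.card (centralizer ({a} : Set G)) ∣ q := by
  have hco := coprime_of_orders (H := centralizer ({a} : Set G)) (N := p) (M := 2 * e * b)
    (fun x => by rw [← Subgroup.orderOf_coe]; exact h.cent_p ha1 ha x.2)
    (Nat.Coprime.mul_right (Nat.Coprime.mul_right ((Nat.coprime_primes h.hp Nat.prime_two).2 h.hp2) h.hpe) h.hpb)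
  refine hco.dvd_of_dvd_mul_right ?_
  have := card_subgroup_dvd_card (centralizer ({a} : Set G))
  rwa [h.card, mul_assoc] at this

/-- An involution `t` and a cyclic subgroup of index two of its centraliser. -/
theorem exists_t : ∃ (t x : G), orderOf x = e ∧ orderOf t = 2 ∧ t ∈ zpowers x ∧
    zpowers x ≤ centralizer ({t} : Set G) ∧ Nat.card (centralizer ({t} : Set G)) = 2 * e := by
  haveI : Fact (Nat.Prime 2) := ⟨Nat.prime_two⟩
  obtain ⟨x, hx⟩ := h.exE
  have he0 := h.e_pos
  obtain ⟨e', he'⟩ := h.he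
  have ht : orderOf (x ^ e') = 2 := by
    rw [orderOf_pow' _ (by omega), hx, he', Nat.gcd_eq_right (dvd_mul_left e' 2), Nat.mul_div_cancel _ (by omega)]
  have hle : zpowers x ≤ centralizer ({x ^ e'} : Set G) :=
    zpowers_le.2 (mem_centralizer_singleton_iff.2 (Commute.pow_right (Commute.refl x) e').eq)
  refine ⟨x ^ e', x, hx, ht, pow_mem (mem_zpowers x) _, hle, ?_⟩
  set C := centralizer ({x ^ e'} : Set G) with hC
  obtain ⟨k, hk⟩ := h.card_cent_e (ne_one_of_order_two ht) (ht ▸ h.he)
  have hdvd : e ∣ Nat.card C := hx ▸ Nat.card_zpowers x ▸ Subgroup.card_dvd_of_le hle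
  obtain ⟨l, hl⟩ := hdvd
  rw [← hC] at hk
  have hlk : l * k = 2 := Nat.eq_of_mul_eq_mul_left he0 (by rw [← mul_assoc, ← hl, ← hk]; ring)
  rcases (Nat.dvd_prime Nat.prime_two).1 (Dvd.intro k hlk) with rfl | rfl
  · exfalso
    rw [mul_one] at hl
    have hCe : zpowers x = C := Subgroup.eq_of_le_of_card_ge hle (by rw [Nat.card_zpowers, hx, hl])
    obtain ⟨S, hS⟩ := (IsPGroup.of_card (n := 1) (by rw [Nat.card_zpowers, ht, pow_one] :
      Nat.card (zpowers (x ^ e')) = 2 ^ 1)).exists_le_sylow
    haveI : Nontrivial (S : Subgroup G) := ⟨⟨⟨x ^ e', hS (mem_zpowers _)⟩, 1,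
      fun e => ne_one_of_order_two ht (congrArg Subtype.val e)⟩⟩
    haveI := S.2.center_nontrivial
    obtain ⟨⟨⟨z, hzS⟩, hzc⟩, hz⟩ := exists_prime_orderOf_dvd_card' (G := center (S : Subgroup G)) 2 (by
      obtain ⟨n, hn, hc⟩ := (S.2.to_subgroup _).nontrivial_iff_card.mp
        (inferInstance : Nontrivial (center (S : Subgroup G)))
      exact hc ▸ dvd_pow_self 2 (by omega))
    simp only [Subgroup.orderOf_mk] at hz
    have hzC : z ∈ C := mem_centralizer_singleton_iff.2
      (congrArg Subtype.val (mem_center_iff.1 hzc ⟨x ^ e', hS (mem_zpowers _)⟩)).symm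
    have hzt : z = x ^ e' := by
      rw [← hCe] at hzC
      obtain ⟨i, rfl⟩ := hzC
      change orderOf (x ^ i) = 2 at hz
      show x ^ i = x ^ e'
      have h1 : (x ^ i) * (x ^ i) = 1 := sq_of_order_two hz
      rw [← zpow_add, ← orderOf_dvd_iff_zpow_eq_one, hx, he'] at h1
      obtain ⟨w, hw⟩ := h1
      push_cast at hw
      have hw' : i = e' * w := by linarith
      rcases Int.emod_two_eq_zero_or_one w with r | r
      · exfalso
        refine ne_one_of_order_two hz ?_
        rw [← orderOf_dvd_iff_zpow_eq_one, hx, he']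
        obtain ⟨c, rfl⟩ := Int.dvd_of_emod_eq_zero r
        exact ⟨c, by push_cast; rw [hw']; ring⟩
      · rw [← zpow_natCast, zpow_eq_zpow_iff_modEq, hx, he', Int.modEq_iff_dvd]
        obtain ⟨c, rfl⟩ : ∃ c, w = 2 * c + 1 := ⟨w / 2, by omega⟩
        exact ⟨-c, by push_cast; rw [hw']; ring⟩
    have hSC : (S : Subgroup G) ≤ C := fun y hy => mem_centralizer_singleton_iff.2 (by
      rw [← hzt]
      exact congrArg Subtype.val (mem_center_iff.1 hzc ⟨y, hy⟩))
    have h1 := Subgroup.card_dvd_of_le hSC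
    rw [hl, S.card_eq_multiplicity] at h1
    have h2 := (Nat.prime_two.pow_dvd_iff_le_factorization he0.ne').1 h1
    rw [h.card, Nat.factorization_mul (Nat.mul_ne_zero (by have := h.q5; omega) (by omega))
      (by have := h.hb; omega), Nat.factorization_mul (by have := h.q5; omega) (by omega),
      Nat.factorization_mul two_ne_zero he0.ne'] at h2
    simp only [Finsupp.add_apply, Nat.prime_two.factorization_self,
      Nat.factorization_eq_zero_of_not_dvd h.q_odd, Nat.factorization_eq_zero_of_not_dvd h.b_odd] at h2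
    omega
  · rw [hl, mul_comm]

/-- For an odd prime dividing `e` the Sylow subgroups are cyclic. -/
theorem cyclic_of_dvd_e {r : ℕ} [Fact r.Prime] (hr2 : r ≠ 2) (hre : r ∣ e) (R : Sylow r G) :
    IsCyclic (R : Subgroup G) := by
  obtain ⟨x, hx⟩ := h.exE
  have hr : r.Prime := Fact.out
  set n := e.factorization r with hn
  obtain ⟨m, hm⟩ := Nat.ordProj_dvd e r
  rw [← hn] at hm
  have hy : orderOf (x ^ m) = r ^ n := by
    have hm0 : m ≠ 0 := fun z => by rw [z, mul_zero] at hm; exact h.e_pos.ne' hm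
    rw [orderOf_pow' _ hm0, hx, hm, Nat.gcd_eq_right (dvd_mul_left _ _), Nat.mul_div_cancel _ (Nat.pos_of_ne_zero hm0)]
  let T : Sylow r G := Sylow.ofCard (zpowers (x ^ m)) (by
    rw [Nat.card_zpowers, hy, h.card]
    congr 1
    rw [Nat.factorization_mul (Nat.mul_ne_zero (by have := h.q5; omega) (by have := h.e_pos; omega))
      (by have := h.hb; omega), Nat.factorization_mul (by have := h.q5; omega) (by have := h.e_pos; omega),
      Nat.factorization_mul two_ne_zero h.e_pos.ne']
    simp only [Finsupp.add_apply]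
    rw [Nat.factorization_eq_zero_of_not_dvd (n := q) (fun d => hr.ne_one (Nat.eq_one_of_dvd_coprimes h.qe d hre)),
      Nat.factorization_eq_zero_of_not_dvd (n := b) (fun d => hr.ne_one (Nat.eq_one_of_dvd_coprimes h.heb hre d)),
      Nat.factorization_eq_zero_of_not_dvd (n := 2) (fun d => hr2 ((Nat.prime_dvd_prime_iff_eq hr Nat.prime_two).1 d)),
      hn]
    ring)
  haveI : IsCyclic (T : Subgroup G) := by
    show IsCyclic (zpowers (x ^ m))
    exact Subgroup.isCyclic_zpowers _
  exact isCyclic_of_surjective (Sylow.equiv T R) (Sylow.equiv T R).surjective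

theorem no_solvable (R : Subgroup G) (hR : R.Normal) (hRs : Group.IsSolvable R) : R = ⊥ := by
  classical
  by_contra hne
  obtain ⟨V, hVR, hVn, hV1, hmin⟩ := Cfsg.Lib.Coprime.exists_minimal_normal hR hne
  haveI := hVn
  haveI hVs : Group.IsSolvable V :=
    (haveI := hRs; Group.isSolvable_of_isSolvable_injective (Subgroup.inclusion_injective hVR))
  obtain ⟨hVc, r, hr, hVp, hVe⟩ := Cfsg.Lib.Coprime.minimal_normal_solvable hVs hV1 hmin
  haveI := hVc
  haveI := Fact.mk hr
  haveI := Fact.mk h.hp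
  obtain ⟨n, hn⟩ := IsPGroup.iff_card.1 hVp
  have hn0 : n ≠ 0 := fun e => hV1 (Subgroup.card_eq_one.1 (by rw [hn, e, pow_zero]))
  have hVfix : ∀ v ∈ V, v ≠ 1 → orderOf v = r := fun v hv h1 => by
    rcases (Nat.dvd_prime hr).1 (orderOf_dvd_of_pow_eq_one (hVe v hv)) with e' | e'
    · exact absurd (orderOf_eq_one_iff.1 e') h1
    · exact e'
  have hnorm : ∀ A : Subgroup G, A ≤ normalizer (V : Set G) := fun A => by
    rw [Subgroup.normalizer_eq_top_iff.2 hVn]; exact le_top
  by_cases hrp : r = p
  · -- the tori act semiregularly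
    obtain ⟨x, hx⟩ := h.exE
    obtain ⟨z, hz⟩ := h.exB
    have key : ∀ (w : G) (m : ℕ), orderOf w = m → p.Coprime m → m ∣ Nat.card V - 1 := by
      intro w m hw hm
      have hf : Cfsg.Lib.Frobenius.Fpf (zpowers w) V := by
        intro a ha ha1
        refine eq_bot_iff.2 fun v hv => ?_
        obtain ⟨hvV, hva⟩ := mem_inf.1 hv
        rw [mem_bot]
        by_contra hv1
        have h1 : orderOf a ∣ p := h.cent_p hv1 (by rw [hVfix v hvV hv1, hrp])
          (mem_centralizer_singleton_iff.2 (mem_centralizer_singleton_iff.1 hva).symm)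
        have h2 : orderOf a ∣ m := hw ▸ Nat.card_zpowers w ▸ Subgroup.orderOf_dvd_natCard _ ha
        exact ha1 (orderOf_eq_one_iff.1 (Nat.eq_one_of_dvd_coprimes hm h1 h2))
      have := hf.card_dvd (hnorm _)
      rwa [Nat.card_zpowers, hw] at this
    have heb : e * b ∣ Nat.card V - 1 :=
      Nat.Coprime.mul_dvd_of_dvd_of_dvd h.heb (key x e hx h.hpe) (key z b hz h.hpb)
    have hVq : Nat.card V ∣ q := by
      refine Nat.Coprime.dvd_of_dvd_mul_right ?_ (show Nat.card V ∣ q * (2 * e * b) from
        (by have := card_subgroup_dvd_card V; rwa [h.card, mul_assoc] at this))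
      rw [hn, hrp]
      exact Nat.Coprime.pow_left n
        (Nat.Coprime.mul_right (Nat.Coprime.mul_right ((Nat.coprime_primes h.hp Nat.prime_two).2 h.hp2) h.hpe) h.hpb)
    have h1 : 2 ≤ Nat.card V := hn ▸ (Nat.one_lt_pow hn0 hr.one_lt)
    have h2 := Nat.le_of_dvd (by omega) heb
    have h3 := Nat.le_of_dvd (by have := h.q5; omega) hVq
    have h4 : e + b ≤ e * b := Nat.add_le_mul (by have := h.he; have := h.e_pos; omega) h.hb
    have := h.hsum
    omega
  · obtain ⟨P⟩ := (inferInstance : Nonempty (Sylow p G))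
    have hPq : Nat.card (P : Subgroup G) = q := by
      obtain ⟨f, -, hf⟩ := h.hq
      rw [P.card_eq_multiplicity, h.card, hf,
        Nat.factorization_mul (Nat.mul_ne_zero (pow_ne_zero _ h.hp.ne_zero) (by have := h.e_pos; omega))
        (by have := h.hb; omega), Nat.factorization_mul (pow_ne_zero _ h.hp.ne_zero) (by have := h.e_pos; omega),
        Nat.factorization_mul two_ne_zero h.e_pos.ne', Nat.factorization_pow]
      simp only [Finsupp.add_apply, Finsupp.smul_apply, smul_eq_mul, h.hp.factorization_self,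
        Nat.factorization_eq_zero_of_not_dvd (h.hp.coprime_iff_not_dvd.1 h.hpe),
        Nat.factorization_eq_zero_of_not_dvd (h.hp.coprime_iff_not_dvd.1 h.hpb),
        Nat.factorization_eq_zero_of_not_dvd (n := 2)
          (fun d => h.hp2 ((Nat.prime_dvd_prime_iff_eq h.hp Nat.prime_two).1 d))]
      simp
    have hPexp : ∀ a ∈ (P : Subgroup G), orderOf a ∣ p := fun a ha => by
      have hd : orderOf a ∣ q := hPq ▸ Subgroup.orderOf_dvd_natCard _ ha
      rcases h.spec a with r' | r' | r'
      · exact r'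
      · rw [Nat.eq_one_of_dvd_coprimes h.qe hd r']; exact one_dvd _
      · rw [Nat.eq_one_of_dvd_coprimes h.qb hd r']; exact one_dvd _
    have hf : Cfsg.Lib.Frobenius.Fpf (P : Subgroup G) V := by
      intro a ha ha1
      refine eq_bot_iff.2 fun v hv => ?_
      obtain ⟨hvV, hva⟩ := mem_inf.1 hv
      rw [mem_bot]
      by_contra hv1
      have h1 : orderOf v ∣ p := h.cent_p ha1 (hPexp a ha) hva
      rw [hVfix v hvV hv1] at h1
      exact hrp ((Nat.prime_dvd_prime_iff_eq hr h.hp).1 h1)
    have hcyc := hf.isCyclic_or_quaternion (hnorm _) hV1 P.2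
    rcases hcyc with hc | ⟨hp2, -⟩
    swap; · exact h.hp2 hp2
    obtain ⟨a, ha⟩ := hc.exists_generator
    have hqp : q = p := by
      have h1 : orderOf a ∣ p := by rw [← Subgroup.orderOf_coe]; exact hPexp a a.2
      rw [orderOf_eq_card_of_forall_mem_zpowers ha, hPq] at h1
      exact ((Nat.dvd_prime h.hp).1 h1).resolve_left (by have := h.q5; omega)
    have hd := hf.card_dvd (hnorm _)
    rw [hPq] at hd
    have h1 : 2 ≤ Nat.card V := hn ▸ (Nat.one_lt_pow hn0 hr.one_lt)
    have h2 := Nat.le_of_dvd (by omega) hd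
    by_cases hr2 : r = 2
    · -- the four-group case
      subst hr2
      have hV2e : Nat.card V ∣ 2 * e := by
        have := card_subgroup_dvd_card V
        rw [h.card, mul_comm q, mul_assoc] at this
        refine Nat.Coprime.dvd_of_dvd_mul_right ?_ this
        rw [hn]
        exact Nat.Coprime.pow_left n (Nat.Coprime.mul_right (Nat.coprime_two_left.2
          (Nat.not_even_iff_odd.1 fun e => h.q_odd e.two_dvd)) (Nat.coprime_two_left.2
          (Nat.not_even_iff_odd.1 fun e => h.b_odd e.two_dvd)))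
      have h3 := Nat.le_of_dvd (by have := h.e_pos; omega) hV2e
      have := h.hdiff; have := h.hsum
      have hcard : Nat.card V = 2 * e := by omega
      obtain ⟨x, hx⟩ := h.exE
      have hpow : x ^ 2 = 1 := by
        haveI := hVn
        have hxV : x ∈ V := by
          have ho : orderOf (QuotientGroup.mk x : G ⧸ V) = 1 := by
            refine Nat.eq_one_of_dvd_coprimes (h.qe.symm.mul_right h.heb) ((orderOf_map_dvd (QuotientGroup.mk' V) x).trans hx.dvd) ?_
            have := _root_.orderOf_dvd_natCard (QuotientGroup.mk x : G ⧸ V)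
            have hidx := V.card_mul_index
            rw [hcard, h.card, show q * (2 * e) * b = 2 * e * (q * b) by ring] at hidx
            rwa [show Nat.card (G ⧸ V) = q * b from Nat.eq_of_mul_eq_mul_left (by omega) hidx] at this
          exact (QuotientGroup.eq_one_iff x).1 (orderOf_eq_one_iff.1 ho)
        exact hVe x hxV
      have := Nat.le_of_dvd two_pos (orderOf_dvd_of_pow_eq_one hpow)
      have := h.q5
      omega
    · have hV : Nat.card V ∣ e * b := by
        have := card_subgroup_dvd_card V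
        rw [h.card, show q * (2 * e) * b = e * b * (q * 2) by ring] at this
        refine Nat.Coprime.dvd_of_dvd_mul_right ?_ this
        rw [hn]
        refine Nat.Coprime.pow_left n (Nat.Coprime.mul_right ?_ ((Nat.coprime_primes hr Nat.prime_two).2 hr2))
        rw [hqp]; exact (Nat.coprime_primes hr h.hp).2 hrp
      have h3 : Nat.card V ∣ e ∨ Nat.card V ∣ b := by
        rw [hn] at hV ⊢
        rcases (Nat.Prime.dvd_mul hr).1 ((dvd_pow_self r hn0).trans hV) with d | d
        · left
          exact (Nat.Coprime.pow_left n (hr.coprime_iff_not_dvd.2 fun d' =>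
            hr.ne_one (Nat.eq_one_of_dvd_coprimes h.heb d d'))).dvd_of_dvd_mul_right hV
        · right
          exact (Nat.Coprime.pow_left n (hr.coprime_iff_not_dvd.2 fun d' =>
            hr.ne_one (Nat.eq_one_of_dvd_coprimes h.heb d' d))).dvd_of_dvd_mul_left hV
      have := h.hsum; have := h.hdiff; have := h.e_pos; have := h.hb
      rcases h3 with d | d
      · have := Nat.le_of_dvd (by omega) d; omega
      · have := Nat.le_of_dvd (by omega) d; omega

theorem exists_simple : ∃ N : Subgroup G, N.Normal ∧ IsSimpleGroup N ∧ ¬ IsMulCommutative N := by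
  classical
  haveI : Nontrivial G := Finite.one_lt_card_iff_nontrivial.1 (by
    rw [h.card]; have := h.q5; have := h.e_pos; have := h.hb
    calc 1 < q * 1 * 1 := by omega
      _ ≤ q * (2 * e) * b := by gcongr <;> omega)
  obtain ⟨N, -, hNn, hN1, hmin⟩ := Cfsg.Lib.Coprime.exists_minimal_normal (K := (⊤ : Subgroup G)) inferInstance
    (fun e => by
      have h1 := congrArg (fun L : Subgroup G => Nat.card L) e
      simp only [Subgroup.card_top, Subgroup.card_bot] at h1
      exact (Finite.one_lt_card (α := G)).ne' h1)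
  haveI := hNn
  have hnc : ¬ IsMulCommutative N := fun hc => hN1 (h.no_solvable N hNn (by
    haveI := hc
    exact Group.isSolvable_of_comm fun a b => mul_comm' a b))
  refine ⟨N, hNn, ?_, hnc⟩
  obtain ⟨T, _, m, hT, hm, ⟨φ⟩⟩ := Cfsg.Agent.S0721.result N hN1 hmin
  haveI := hT
  haveI : Finite T := Finite.of_surjective (fun z : N => φ z ⟨0, hm⟩) fun z => ⟨φ.symm fun _ => z, by simp⟩
  rcases Nat.lt_or_ge m 2 with hlt | hge
  · obtain rfl : m = 1 := by omega
    let e1 : (Fin 1 → T) ≃* T :=
      { toFun := fun f => f 0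
        invFun := fun z _ => z
        left_inv := fun f => funext fun i => by rw [Subsingleton.elim i 0]
        right_inv := fun _ => rfl
        map_mul' := fun _ _ => rfl }
    exact (φ.trans e1).isSimpleGroup_congr.2 hT
  exfalso
  have hTnc : ¬ ∀ a b : T, a * b = b * a := fun hc => hnc ⟨⟨fun a b => φ.injective (by
    rw [map_mul, map_mul]; exact funext fun i => hc _ _)⟩⟩
  -- two primes in the simple factor
  obtain ⟨s, hs, hs2, hsT⟩ : ∃ s : ℕ, s.Prime ∧ s ≠ 2 ∧ s ∣ Nat.card T := by
    by_contra hall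
    push Not at hall
    haveI : Fact (Nat.Prime 2) := ⟨Nat.prime_two⟩
    have hp : IsPGroup 2 T := by
      obtain ⟨k, hk⟩ : ∃ k, Nat.card T = 2 ^ k :=
        ⟨_, Nat.eq_prime_pow_of_unique_prime_dvd Nat.card_pos.ne' fun {d} hd hdd => by_contra fun hne => hall d hd hne hdd⟩
      exact IsPGroup.of_card hk
    haveI : Nontrivial T := hT.toNontrivial
    haveI := hp.center_nontrivial
    rcases hT.eq_bot_or_eq_top_of_normal (center T) inferInstance with c | c
    · exact (nontrivial_iff_ne_bot _).1 inferInstance c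
    · exact hTnc fun a b => mem_center_iff.1 (c.symm ▸ mem_top b : b ∈ center T) a
  haveI := Fact.mk hs
  obtain ⟨a, ha⟩ := exists_prime_orderOf_dvd_card' (G := T) s hsT
  have hev : 2 ∣ Nat.card T := by
    by_contra hodd
    haveI : Group.IsSolvable T := Cfsg.Agent.PF.isSolvable_of_odd T
      (Nat.not_even_iff_odd.1 fun e => hodd e.two_dvd)
    exact hTnc fun a b => IsSimpleGroup.comm_iff_isSolvable.2 inferInstance a b
  haveI : Fact (Nat.Prime 2) := ⟨Nat.prime_two⟩
  obtain ⟨i, hi⟩ := exists_prime_orderOf_dvd_card' (G := T) 2 hev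
  let emb : Fin m → T →* G := fun j => N.subtype.comp (φ.symm.toMonoidHom.comp (MonoidHom.mulSingle (fun _ => T) j))
  have hinj : ∀ j, Function.Injective (emb j) := fun j u v e =>
    Pi.mulSingle_injective (M := fun _ : Fin m => T) j (φ.symm.injective (Subgroup.subtype_injective _ e))
  have hcomm : ∀ j k, j ≠ k → ∀ u v : T, Commute (emb j u) (emb k v) := fun j k hjk u v =>
    (((Pi.mulSingle_commute (f := fun _ : Fin m => T) hjk u v).map φ.symm.toMonoidHom).map N.subtype)
  have hse : s ∣ e := by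
    have h2 : orderOf (emb ⟨0, hm⟩ a) = s := by rw [orderOf_injective _ (hinj _), ha]
    have h1 : orderOf (emb ⟨1, hge⟩ i) = 2 := by rw [orderOf_injective _ (hinj _), hi]
    have := h.cent_e (ne_one_of_order_two h1) (h1 ▸ h.he) (c := emb ⟨0, hm⟩ a)
      (mem_centralizer_singleton_iff.2 (hcomm _ _ (by simp) a i).eq)
    rwa [h2] at this
  set j₀ : Fin m := ⟨0, hm⟩
  set j₁ : Fin m := ⟨1, hge⟩
  have hne : j₀ ≠ j₁ := by simp [j₀, j₁]
  let V : Subgroup G := zpowers (emb j₀ a) ⊔ zpowers (emb j₁ a)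
  have hVp : IsPGroup s V := by
    have h1 : ∀ j, IsPGroup s (zpowers (emb j a)) := fun j => IsPGroup.of_card (n := 1)
      (by rw [Nat.card_zpowers, orderOf_injective _ (hinj j), ha, pow_one])
    refine (h1 j₀).to_sup_of_normal_right' (h1 j₁) (zpowers_le.2 ?_)
    refine centralizer_le_normalizer _ (mem_centralizer_iff.2 ?_)
    rintro y ⟨l, rfl⟩
    exact ((hcomm j₀ j₁ hne a a).zpow_right l).eq.symm
  obtain ⟨R, hR⟩ := hVp.exists_le_sylow
  haveI := h.cyclic_of_dvd_e hs2 hse R
  have h1 : emb j₀ a ∈ (R : Subgroup G) := hR (mem_sup_left (mem_zpowers _))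
  have h2 : emb j₁ a ∈ (R : Subgroup G) := hR (mem_sup_right (mem_zpowers _))
  have heq : zpowers (emb j₀ a) = zpowers (emb j₁ a) :=
    Cfsg.Lib.SolvStruct.CyclicProduct.eq_of_card_eq_of_isCyclic (zpowers_le.2 h1) (zpowers_le.2 h2)
      (by rw [Nat.card_zpowers, Nat.card_zpowers, orderOf_injective _ (hinj _), orderOf_injective _ (hinj _)])
  obtain ⟨l, hl⟩ := (heq ▸ mem_zpowers (emb j₀ a) : emb j₀ a ∈ zpowers (emb j₁ a))
  change emb j₁ a ^ l = emb j₀ a at hl
  rw [← map_zpow] at hl
  have h3 : Pi.mulSingle (M := fun _ : Fin m => T) j₁ (a ^ l) = Pi.mulSingle j₀ a :=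
    φ.symm.injective (Subgroup.subtype_injective _ hl)
  have h4 := congrFun h3 j₀
  rw [Pi.mulSingle_eq_of_ne hne, Pi.mulSingle_eq_same] at h4
  rw [← h4, orderOf_one] at ha
  exact hs.ne_one ha.symm

end Spec

end Cfsg.Lib.PSLOrderSpec
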